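import Cfsg.Agent.H324.TL.Flag

/-!
# Theorem L (helper324, for S2464): existence of a flag basis
-/

set_option autoImplicit false

namespace Cfsg.Agent.H324.TL

open Matrix Polynomial Cfsg.Agent.H957.TL

variable {F : Type*} [Field F] {s r : ℕ}

theorem flag_vectors {V : Type*} [AddCommGroup V] [Module F V] [FiniteDimensional F V] (M : V → V) {v0 : V}
    (hv0 : v0 ≠ 0) (m : ℕ) (hm : m + 1 ≤ Module.finrank F V) :
    ∃ e : ℕ → V, e 0 = v0 ∧ LinearIndependent F (fun i : Fin (m + 1) => e i) ∧
      ∀ k, k + 1 < m + 1 → M (e k) = e (k + 1) ∨ M (e k) ∈ Submodule.span F (e '' {i | i ≤ k}) := by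
  classical
  induction m with
  | zero =>
    refine ⟨fun _ => v0, rfl, ?_, fun k hk => absurd hk (by omega)⟩
    have : Unique (Fin (0 + 1)) := inferInstanceAs (Unique (Fin 1))
    exact linearIndependent_unique_iff.2 hv0
  | succ m ih =>
    obtain ⟨e, he0, hli, he⟩ := ih (by omega)
    have himg : ∀ (w : V) (k : ℕ), k ≤ m → Function.update e (m + 1) w '' {i | i ≤ k} = e '' {i | i ≤ k} := by
      intro w k hk
      refine Set.image_congr fun i hi => ?_
      have : i ≤ k := hi
      exact Function.update_of_ne (by omega) _ _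
    have hrange : Set.range (fun i : Fin (m + 1) => e i) = e '' {i | i ≤ m} := by
      ext x
      constructor
      · rintro ⟨i, rfl⟩
        exact ⟨i.val, Nat.lt_succ_iff.1 i.isLt, rfl⟩
      · rintro ⟨i, hi, rfl⟩
        exact ⟨⟨i, Nat.lt_succ_of_le hi⟩, rfl⟩
    have key : ∀ w : V, w ∉ Submodule.span F (Set.range (fun i : Fin (m + 1) => e i)) →
        (M (e m) = w ∨ M (e m) ∈ Submodule.span F (e '' {i | i ≤ m})) →
        ∃ e : ℕ → V, e 0 = v0 ∧ LinearIndependent F (fun i : Fin (m + 1 + 1) => e i) ∧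
          ∀ k, k + 1 < m + 1 + 1 → M (e k) = e (k + 1) ∨ M (e k) ∈ Submodule.span F (e '' {i | i ≤ k}) := by
      intro w hw hMw
      refine ⟨Function.update e (m + 1) w, ?_, ?_, ?_⟩
      · rw [Function.update_of_ne (by omega), he0]
      · rw [linearIndependent_fin_succ']
        have hinit : (Fin.init fun i : Fin (m + 1 + 1) => Function.update e (m + 1) w i) =
            fun i : Fin (m + 1) => e i := by
          funext i
          show Function.update e (m + 1) w (i.castSucc : Fin (m + 1 + 1)).val = e i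
          rw [Fin.val_castSucc, Function.update_of_ne (by omega)]
        rw [hinit]
        refine ⟨hli, ?_⟩
        show Function.update e (m + 1) w (Fin.last (m + 1)).val ∉ _
        rw [Fin.val_last, Function.update_self]
        exact hw
      · intro k hk
        rw [himg w k (by omega), Function.update_of_ne (by omega : k ≠ m + 1)]
        rcases Nat.lt_or_ge k m with h | h
        · rw [Function.update_of_ne (by omega : k + 1 ≠ m + 1)]
          exact he k (by omega)
        · have e1 : k = m := by omega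
          rw [e1, Function.update_self]
          exact hMw
    by_cases h : M (e m) ∈ Submodule.span F (Set.range (fun i : Fin (m + 1) => e i))
    · have hlt : Submodule.span F (Set.range (fun i : Fin (m + 1) => e i)) ≠ ⊤ := by
        intro htop
        have h1 : Module.finrank F (Submodule.span F (Set.range (fun i : Fin (m + 1) => e i))) = m + 1 := by
          rw [finrank_span_eq_card hli, Fintype.card_fin]
        rw [htop, finrank_top] at h1
        omega
      obtain ⟨w, -, hw⟩ := SetLike.exists_of_lt (lt_top_iff_ne_top.2 hlt)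
      refine key w hw (Or.inr ?_)
      rwa [hrange] at h
    · exact key _ h (Or.inl rfl)

/-- **Flag bases.** -/
theorem exists_flag (hs : 0 < s) (A : Matrix (Fin s) (Fin s) F) {v0 : Fin s → F} (hv0 : v0 ≠ 0) :
    ∃ R R' : Matrix (Fin s) (Fin s) F, R * R' = 1 ∧ R' * R = 1 ∧ R ⟨0, hs⟩ = v0 ∧ IsFlag (R * A * R') := by
  obtain ⟨t, rfl⟩ : ∃ t, s = t + 1 := ⟨s - 1, by omega⟩
  obtain ⟨e, he0, hli, he⟩ := flag_vectors (F := F) (fun v : Fin (t + 1) → F => v ᵥ* A) hv0 t (by
    rw [Module.finrank_fintype_fun_eq_card, Fintype.card_fin])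
  let R : Matrix (Fin (t + 1)) (Fin (t + 1)) F := fun i => e i
  have hR : IsUnit R := Matrix.linearIndependent_rows_iff_isUnit.1 hli
  have hRd : IsUnit R.det := (Matrix.isUnit_iff_isUnit_det R).1 hR
  have h1 : R * R⁻¹ = 1 := mul_nonsing_inv _ hRd
  have h2 : R⁻¹ * R = 1 := nonsing_inv_mul _ hRd
  have hrow : ∀ i : Fin (t + 1), e i ᵥ* R⁻¹ = Pi.single i 1 := by
    intro i
    have h3 : (R * R⁻¹) i = e i ᵥ* R⁻¹ := by
      funext j
      rfl
    rw [← h3, h1]
    funext j
    by_cases h : i = j
    · subst h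
      rw [one_apply_eq, Pi.single_eq_same]
    · rw [one_apply_ne h, Pi.single_eq_of_ne (Ne.symm h)]
  have hrow2 : ∀ i : Fin (t + 1), (R * A * R⁻¹) i = (e i ᵥ* A) ᵥ* R⁻¹ := by
    intro i
    funext j
    rfl
  refine ⟨R, R⁻¹, h1, h2, he0, fun k => ?_⟩
  rcases Nat.lt_or_ge (k.val + 1) (t + 1) with hk | hk
  · rcases he k.val hk with h3 | h3
    · left
      refine ⟨hk, ?_⟩
      rw [hrow2]
      show (e k ᵥ* A) ᵥ* R⁻¹ = _
      rw [h3]
      exact hrow ⟨k.val + 1, hk⟩
    · right
      intro j hj
      rw [hrow2]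
      refine Submodule.span_induction (p := fun x _ => (x ᵥ* R⁻¹) j = 0) ?_ ?_ ?_ ?_ h3
      · rintro _ ⟨i, hi, rfl⟩
        have hi' : i ≤ k.val := hi
        have h4 := hrow ⟨i, by omega⟩
        show (e i ᵥ* R⁻¹) j = 0
        rw [h4, Pi.single_eq_of_ne]
        intro h5
        rw [h5, Fin.lt_def] at hj
        exact absurd hj (by simp; omega)
      · rw [zero_vecMul]; rfl
      · intro x y _ _ hx hy
        rw [add_vecMul, Pi.add_apply, hx, hy, add_zero]
      · intro c x _ hx
        rw [smul_vecMul, Pi.smul_apply, hx, smul_zero]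
  · right
    intro j hj
    rw [Fin.lt_def] at hj
    exact absurd j.isLt (by omega)

end Cfsg.Agent.H324.TL
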