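import Cfsg.Agent.H324.TL.Flag

/-!
# Theorem L (helper324, for S2464): the intertwining maps
-/

set_option autoImplicit false

namespace Cfsg.Agent.H324.TL

open Matrix Polynomial Cfsg.Agent.H957.TL

variable {F : Type*} [Field F] {s r : ℕ}

theorem KM_col {A : Matrix (Fin s) (Fin s) F} {k j : Fin s} (h : j.val = k.val + 1) :
    KM A *ᵥ Pi.single j 1 = KM A k j • Pi.single k (1 : F) := by
  funext i
  rw [mulVec_single_one, Pi.smul_apply, smul_eq_mul]
  show KM A i j = _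
  by_cases hi : i = k
  · subst hi
    rw [Pi.single_eq_same, mul_one]
  · rw [Pi.single_eq_of_ne hi, mul_zero]
    refine KM_of_ne fun h' => hi (Fin.ext (by omega))

theorem inter_aeval {A1 : Matrix (Fin s) (Fin s) F} {A2 : Matrix (Fin r) (Fin r) F} {Γ : Matrix (Fin r) (Fin s) F}
    (h1 : Γ * A1 = A2 * Γ) (q : F[X]) : Γ * aeval A1 q = aeval A2 q * Γ := by
  induction q using Polynomial.induction_on' with
  | add p q hp hq => rw [map_add, map_add, Matrix.mul_add, Matrix.add_mul, hp, hq]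
  | monomial n c =>
    have hn : Γ * A1 ^ n = A2 ^ n * Γ := by
      induction n with
      | zero => rw [pow_zero, pow_zero, Matrix.mul_one, Matrix.one_mul]
      | succ n ih => rw [pow_succ, pow_succ, ← Matrix.mul_assoc, ih, Matrix.mul_assoc, h1, Matrix.mul_assoc]
    rw [aeval_monomial, aeval_monomial, ← Algebra.smul_def, ← Algebra.smul_def, Matrix.mul_smul, Matrix.smul_mul, hn]

theorem inter_range {A1 : Matrix (Fin s) (Fin s) F} {A2 : Matrix (Fin r) (Fin r) F} (hA2 : Irreducible A2.charpoly)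
    {Γ : Matrix (Fin r) (Fin s) F} (h1 : Γ * A1 = A2 * Γ) (hΓ : Γ ≠ 0) : ∀ w : Fin r → F, ∃ v, Γ *ᵥ v = w := by
  have h := simple_of_irreducible hA2 (U := LinearMap.range (Matrix.mulVecLin Γ)) (by
    rintro _ ⟨v, rfl⟩
    refine ⟨A1 *ᵥ v, ?_⟩
    rw [mulVecLin_apply, mulVecLin_apply, mulVec_mulVec, mulVec_mulVec, h1])
  rcases h with h | h
  · exfalso
    apply hΓ
    ext i j
    have h2 : Γ *ᵥ (Pi.single j 1) ∈ LinearMap.range (Matrix.mulVecLin Γ) := ⟨_, rfl⟩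
    rw [h, Submodule.mem_bot, mulVec_single_one] at h2
    exact congrFun h2 i
  · intro w
    have h2 : w ∈ LinearMap.range (Matrix.mulVecLin Γ) := by rw [h]; exact Submodule.mem_top
    exact h2

theorem inter_rel (hs : 0 < s) {A1 : Matrix (Fin s) (Fin s) F} {A2 : Matrix (Fin r) (Fin r) F} {b : Fin r → F} {a : F}
    {Γ : Matrix (Fin r) (Fin s) F} (h1 : Γ * A1 = A2 * Γ)
    (h2 : ∀ v, (Pi.single ⟨0, hs⟩ 1 : Fin s → F) ⬝ᵥ v = 0 →
      ∃ c : F, (A2 + a • 1) *ᵥ (Γ *ᵥ v) - Γ *ᵥ ((A1 + 1 + KM A1) *ᵥ v) = c • b)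
    {k j : Fin s} (hj : j.val = k.val + 1) :
    ∃ c : F, (a - 1) • (Γ *ᵥ (Pi.single j 1)) = c • b + KM A1 k j • (Γ *ᵥ Pi.single k 1) := by
  obtain ⟨c, hc⟩ := h2 (Pi.single j 1) (by
    rw [single_dotProduct, one_mul, Pi.single_eq_of_ne]
    intro h
    have := congrArg Fin.val h
    simp at this
    omega)
  refine ⟨c, ?_⟩
  rw [← hc, add_mulVec, add_mulVec, add_mulVec, one_mulVec, mulVec_add, mulVec_add, KM_col hj, smul_mulVec, one_mulVec,
    mulVec_mulVec, mulVec_mulVec, h1, mulVec_smul, sub_smul, one_smul]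
  abel

/-- `deg ≥ 3` -/
theorem inter_three (hs : 0 < s) {A1 : Matrix (Fin s) (Fin s) F} {A2 : Matrix (Fin r) (Fin r) F}
    (hA2 : Irreducible A2.charpoly) (hr : 3 ≤ r) {b : Fin r → F} {a : F} (ha : a ≠ 1)
    {Γ : Matrix (Fin r) (Fin s) F} (h1 : Γ * A1 = A2 * Γ)
    (h2 : ∀ v, (Pi.single ⟨0, hs⟩ 1 : Fin s → F) ⬝ᵥ v = 0 →
      ∃ c : F, (A2 + a • 1) *ᵥ (Γ *ᵥ v) - Γ *ᵥ ((A1 + 1 + KM A1) *ᵥ v) = c • b) : Γ = 0 := by
  classical
  by_contra hΓ
  have hsurj := inter_range hA2 h1 hΓ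
  have ha' : a - 1 ≠ 0 := sub_ne_zero.2 ha
  let W : Submodule F (Fin r → F) :=
    Submodule.span F ((({b, Γ *ᵥ (Pi.single ⟨0, hs⟩ 1)} : Finset (Fin r → F)) : Set (Fin r → F)))
  have hb : b ∈ W := Submodule.subset_span (by simp)
  have h0 : Γ *ᵥ (Pi.single ⟨0, hs⟩ 1) ∈ W := Submodule.subset_span (by simp)
  have hall : ∀ n : ℕ, ∀ j : Fin s, j.val = n → Γ *ᵥ (Pi.single j 1) ∈ W := by
    intro n
    induction n with
    | zero =>
      intro j hj
      have : j = ⟨0, hs⟩ := Fin.ext hj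
      rw [this]
      exact h0
    | succ n ih =>
      intro j hj
      have hk : n < s := by omega
      obtain ⟨c, hc⟩ := inter_rel hs h1 h2 (k := ⟨n, hk⟩) (j := j) hj
      have h3 : (a - 1) • (Γ *ᵥ (Pi.single j 1)) ∈ W := by
        rw [hc]
        exact W.add_mem (W.smul_mem _ hb) (W.smul_mem _ (ih ⟨n, hk⟩ rfl))
      have h4 := W.smul_mem (a - 1)⁻¹ h3
      rwa [smul_smul, inv_mul_cancel₀ ha', one_smul] at h4
  have htop : W = ⊤ := by
    rw [eq_top_iff]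
    intro w _
    obtain ⟨v, rfl⟩ := hsurj w
    have hv : v = ∑ j, v j • (Pi.single j 1 : Fin s → F) := by
      funext i
      simp [Finset.sum_apply, Pi.single_apply]
    rw [hv, mulVec_sum]
    refine W.sum_mem fun j _ => ?_
    rw [mulVec_smul]
    exact W.smul_mem _ (hall j.val j rfl)
  have h5 : Module.finrank F W ≤ 2 := (finrank_span_finset_le_card _).trans Finset.card_le_two
  rw [htop, finrank_top, Module.finrank_fintype_fun_eq_card, Fintype.card_fin] at h5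
  omega

/-- `deg ≥ 2`, with the good first row -/
theorem inter_two (hs : 0 < s) {A1 : Matrix (Fin s) (Fin s) F} {A2 : Matrix (Fin r) (Fin r) F}
    (hA2 : Irreducible A2.charpoly) (hr : 2 ≤ r) {b : Fin r → F} (hb : b ≠ 0) {a : F} (ha : a ≠ 1)
    (hK : ∀ j, KM A1 ⟨0, hs⟩ j = 0) (hp : (Pi.single ⟨0, hs⟩ 1 : Fin s → F) ᵥ* aeval A1 A2.charpoly ≠ 0)
    {Γ : Matrix (Fin r) (Fin s) F} (h1 : Γ * A1 = A2 * Γ)
    (h2 : ∀ v, (Pi.single ⟨0, hs⟩ 1 : Fin s → F) ⬝ᵥ v = 0 →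
      ∃ c : F, (A2 + a • 1) *ᵥ (Γ *ᵥ v) - Γ *ᵥ ((A1 + 1 + KM A1) *ᵥ v) = c • b) : Γ = 0 := by
  classical
  by_contra hΓ
  have hsurj := inter_range hA2 h1 hΓ
  have ha' : a - 1 ≠ 0 := sub_ne_zero.2 ha
  obtain ⟨i, hi⟩ : ∃ i, b i ≠ 0 := by
    by_contra h
    push Not at h
    exact hb (funext h)
  obtain ⟨j, hji⟩ : ∃ j : Fin r, j ≠ i := by
    have : Nontrivial (Fin r) := Fin.nontrivial_iff_two_le.2 hr
    exact exists_ne i
  obtain ⟨θ, hθ0, hθb⟩ : ∃ θ : Fin r → F, θ ≠ 0 ∧ θ ⬝ᵥ b = 0 := by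
    refine ⟨b i • Pi.single j 1 - b j • Pi.single i 1, ?_, ?_⟩
    · intro h
      have := congrFun h j
      rw [Pi.sub_apply, Pi.smul_apply, Pi.smul_apply, Pi.single_eq_same, Pi.single_eq_of_ne hji, Pi.zero_apply,
        smul_eq_mul, mul_one, smul_zero, sub_zero] at this
      exact hi this
    · rw [sub_dotProduct, smul_dotProduct, smul_dotProduct, single_dotProduct, single_dotProduct, smul_eq_mul,
        smul_eq_mul]
      ring
  have hall : ∀ n : ℕ, ∀ j : Fin s, j.val = n + 1 → θ ⬝ᵥ (Γ *ᵥ (Pi.single j 1)) = 0 := by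
    intro n
    induction n with
    | zero =>
      intro j hj
      obtain ⟨c, hc⟩ := inter_rel hs h1 h2 (k := ⟨0, hs⟩) (j := j) hj
      rw [hK, zero_smul, add_zero] at hc
      have h3 := congrArg (fun z => θ ⬝ᵥ z) hc
      simp only [dotProduct_smul, hθb, smul_eq_mul, mul_zero] at h3
      exact (mul_eq_zero.1 h3).resolve_left ha'
    | succ n ih =>
      intro j hj
      have hk : n + 1 < s := by omega
      obtain ⟨c, hc⟩ := inter_rel hs h1 h2 (k := ⟨n + 1, hk⟩) (j := j) hj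
      have h3 := congrArg (fun z => θ ⬝ᵥ z) hc
      simp only [dotProduct_smul, dotProduct_add, hθb, ih ⟨n + 1, hk⟩ rfl, smul_eq_mul, add_zero,
        mul_zero] at h3
      exact (mul_eq_zero.1 h3).resolve_left ha'
  have hθΓ : θ ᵥ* Γ = (θ ᵥ* Γ) ⟨0, hs⟩ • Pi.single ⟨0, hs⟩ 1 := by
    funext l
    rw [Pi.smul_apply, smul_eq_mul]
    by_cases hl : l = ⟨0, hs⟩
    · rw [hl, Pi.single_eq_same, mul_one]
    · rw [Pi.single_eq_of_ne hl, mul_zero]
      have hl' : l.val ≠ 0 := fun h => hl (Fin.ext h)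
      have h3 := hall (l.val - 1) l (by omega)
      rw [dotProduct_mulVec, dotProduct_single, mul_one] at h3
      exact h3
  have ht : (θ ᵥ* Γ) ⟨0, hs⟩ ≠ 0 := by
    intro ht
    rw [ht, zero_smul] at hθΓ
    apply hθ0
    funext l
    obtain ⟨v, hv⟩ := hsurj (Pi.single l 1)
    have h3 : θ ⬝ᵥ (Γ *ᵥ v) = 0 := by rw [dotProduct_mulVec, hθΓ, zero_dotProduct]
    rwa [hv, dotProduct_single, mul_one] at h3
  have h3 := inter_aeval h1 A2.charpoly
  rw [aeval_self_charpoly, Matrix.zero_mul] at h3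
  have h4 := congrArg (fun z => θ ᵥ* z) h3
  simp only [← vecMul_vecMul, vecMul_zero] at h4
  rw [hθΓ, smul_vecMul] at h4
  exact hp ((smul_eq_zero.1 h4).resolve_left ht)

end Cfsg.Agent.H324.TL
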