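import Cfsg.Agent.H324.TL.Solve
import Cfsg.Agent.H324.TL.Basis
import Cfsg.Agent.H324.TL.Inter

/-!
# Theorem L (helper324, for S2464): the block theorem
-/

set_option autoImplicit false

namespace Cfsg.Agent.H324.TL

open Matrix Polynomial Cfsg.Agent.H957.TL

variable {F : Type*} [Field F] {s r : ℕ}

theorem eig_aeval {A : Matrix (Fin s) (Fin s) F} {v : Fin s → F} {c : F} (h : v ᵥ* A = c • v) (q : F[X]) :
    v ᵥ* aeval A q = q.eval c • v := by
  induction q using Polynomial.induction_on' with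
  | add p q hp hq => rw [map_add, eval_add, vecMul_add, hp, hq, add_smul]
  | monomial n t =>
    have hn : v ᵥ* A ^ n = c ^ n • v := by
      induction n with
      | zero => rw [pow_zero, pow_zero, vecMul_one, one_smul]
      | succ n ih => rw [pow_succ, ← vecMul_vecMul, ih, smul_vecMul, h, smul_smul, pow_succ]
    rw [aeval_monomial, ← Algebra.smul_def, vecMul_smul, hn, eval_monomial, smul_smul]

theorem eval_ne {p : F[X]} (hp : Irreducible p) (hd : 2 ≤ p.natDegree) (c : F) : p.eval c ≠ 0 := by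
  intro h
  have h1 := degree_eq_one_of_irreducible_of_root hp h
  rw [degree_eq_natDegree hp.ne_zero] at h1
  have h2 : p.natDegree = 1 := by exact_mod_cast h1
  omega

theorem exists_v0 (hs : 0 < s) (hr : 2 ≤ r) {A1 : Matrix (Fin s) (Fin s) F} {A2 : Matrix (Fin r) (Fin r) F}
    (hA2 : Irreducible A2.charpoly) (hcase : 3 ≤ r ∨ aeval A1 A2.charpoly ≠ 0) :
    ∃ v0 : Fin s → F, v0 ≠ 0 ∧ (3 ≤ r ∨ (∀ Γ : Matrix (Fin r) (Fin s) F, Γ * A1 = A2 * Γ → Γ = 0) ∨
      (v0 ᵥ* aeval A1 A2.charpoly ≠ 0 ∧ ∀ c : F, v0 ᵥ* A1 ≠ c • v0)) := by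
  classical
  have hdeg : 2 ≤ A2.charpoly.natDegree := by
    rwa [charpoly_natDegree_eq_dim, Fintype.card_fin]
  have hne : (Pi.single ⟨0, hs⟩ 1 : Fin s → F) ≠ 0 := fun h => by
    have := congrFun h ⟨0, hs⟩
    rw [Pi.single_eq_same] at this
    exact one_ne_zero this
  rcases hcase with h | h
  · exact ⟨_, hne, Or.inl h⟩
  by_cases hΓ : ∀ Γ : Matrix (Fin r) (Fin s) F, Γ * A1 = A2 * Γ → Γ = 0
  · exact ⟨_, hne, Or.inr (Or.inl hΓ)⟩
  push Not at hΓ
  obtain ⟨Γ, hΓ1, hΓ0⟩ := hΓ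
  obtain ⟨x, hx⟩ : ∃ x : Fin s → F, x ᵥ* aeval A1 A2.charpoly ≠ 0 := by
    by_contra h'
    push Not at h'
    apply h
    ext i j
    have := congrFun (h' (Pi.single i 1)) j
    rwa [single_one_vecMul] at this
  have hx0 : x ≠ 0 := fun h' => hx (by rw [h', zero_vecMul])
  by_cases he : ∃ c : F, x ᵥ* A1 = c • x
  · obtain ⟨c, hc⟩ := he
    obtain ⟨i, hi⟩ : ∃ i, Γ i ≠ 0 := by
      by_contra h'
      push Not at h'
      exact hΓ0 (funext h')
    have h1 : Γ i ᵥ* aeval A1 A2.charpoly = 0 := by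
      have h2 := inter_aeval hΓ1 A2.charpoly
      rw [aeval_self_charpoly, Matrix.zero_mul] at h2
      exact congrFun h2 i
    have h3 : (x + Γ i) ᵥ* aeval A1 A2.charpoly ≠ 0 := by
      rwa [add_vecMul, h1, add_zero]
    refine ⟨x + Γ i, fun h' => h3 (by rw [h', zero_vecMul]), Or.inr (Or.inr ⟨h3, fun μ hμ => ?_⟩)⟩
    have h4 := eig_aeval hμ A2.charpoly
    rw [add_vecMul, h1, add_zero, eig_aeval hc A2.charpoly] at h4
    have h5 := eval_ne hA2 hdeg μ
    have h6 : Γ i = ((A2.charpoly.eval μ)⁻¹ * A2.charpoly.eval c - 1) • x := by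
      rw [sub_smul, one_smul, mul_smul, h4, smul_smul, inv_mul_cancel₀ h5, one_smul, add_sub_cancel_left]
    rw [h6, smul_vecMul] at h1
    rcases smul_eq_zero.1 h1 with h7 | h7
    · rw [h7, zero_smul] at h6
      exact hi h6
    · exact hx h7
  · push Not at he
    exact ⟨x, hx0, Or.inr (Or.inr ⟨hx, he⟩)⟩

/-- **The block theorem.** -/
theorem block_fac (hs : 0 < s) (hr : 2 ≤ r) {a : F} (ha0 : a ≠ 0) (ha1 : a ≠ 1) {A1 : Matrix (Fin s) (Fin s) F}
    {A2 : Matrix (Fin r) (Fin r) F} (hA1 : A1.det ≠ 0) (hA2 : A2.det ≠ 0) (hirr : Irreducible A2.charpoly)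
    (hcase : 3 ≤ r ∨ aeval A1 A2.charpoly ≠ 0) (Ps : Matrix (Fin s) (Fin r) F) {f g : F[X]} (hf : f.Monic)
    (hg : g.Monic) (hfn : f.natDegree = s + r) (hgn : g.natDegree = s + r)
    (hdet : f.coeff 0 * g.coeff 0 = A1.det * A2.det) : Fac (fromBlocks A1 Ps 0 A2) f g := by
  classical
  obtain ⟨v0, hv0, hcase⟩ := exists_v0 hs hr hirr hcase
  obtain ⟨R, R', h1, h2, hR0, hfl⟩ := exists_flag hs A1 hv0
  have hd : (R * A1 * R').det = A1.det := by
    have h3 : R.det * R'.det = 1 := by rw [← det_mul, h1, det_one]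
    rw [det_mul, det_mul]
    linear_combination A1.det * h3
  have hd' : (R * A1 * R').det ≠ 0 := by rwa [hd]
  have hint : R * A1 = R * A1 * R' * R := by
    rw [Matrix.mul_assoc (R * A1), h2, Matrix.mul_one]
  obtain ⟨i0⟩ : Nonempty (Fin r) := ⟨⟨0, by omega⟩⟩
  have hb : (Pi.single i0 1 : Fin r → F) ≠ 0 := fun h => by
    have := congrFun h i0
    rw [Pi.single_eq_same] at this
    exact one_ne_zero this
  have hfac : Fac (fromBlocks (R * A1 * R') (R * Ps) 0 A2) f g := by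
    refine solve (S := R * A1 * R' + 1 + KM (R * A1 * R')) (φ := Pi.single ⟨0, hs⟩ 1) (T := A2 + a • 1)
      (b := Pi.single i0 1) hs (by omega) hd' hA2 hb (obs_AS hs hd' hfl) (obs_S hs hfl) (fun κ => obs_AT hirr hA2 hb ha0 κ)
      (fun κ => obs_T hirr hb a κ) ?_ (R * Ps) hf hg hfn hgn (by rw [hd]; exact hdet)
    intro Γ hΓ1 hΓ2
    rcases hcase with h3 | h3 | ⟨h3, h4⟩
    · exact inter_three hs hirr h3 ha1 hΓ1 hΓ2
    · have h4 := h3 (Γ * R) (by
        rw [Matrix.mul_assoc, hint, ← Matrix.mul_assoc, hΓ1, Matrix.mul_assoc])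
      have h5 : Γ = Γ * R * R' := by rw [Matrix.mul_assoc, h1, Matrix.mul_one]
      rw [h5, h4, Matrix.zero_mul]
    · have hrow : (Pi.single ⟨0, hs⟩ 1 : Fin s → F) ᵥ* R = v0 := by
        rw [single_one_vecMul]
        exact hR0
      refine inter_two hs hirr hr hb ha1 ?_ ?_ hΓ1 hΓ2
      · intro j
        by_cases hj : j.val = 0 + 1
        · rcases hfl ⟨0, hs⟩ with ⟨h5, h6⟩ | h5
          · have e : (⟨(⟨0, hs⟩ : Fin s).val + 1, h5⟩ : Fin s) = j := Fin.ext hj.symm
            rw [e] at h6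
            exact KM_eq_zero h6
          · exfalso
            refine h4 ((R * A1 * R') ⟨0, hs⟩ ⟨0, hs⟩) ?_
            have h6 : (R * A1 * R') ⟨0, hs⟩ = (R * A1 * R') ⟨0, hs⟩ ⟨0, hs⟩ • Pi.single ⟨0, hs⟩ 1 := by
              funext l
              rw [Pi.smul_apply, smul_eq_mul]
              by_cases hl : l = ⟨0, hs⟩
              · rw [hl, Pi.single_eq_same, mul_one]
              · rw [Pi.single_eq_of_ne hl, mul_zero]
                refine h5 l ?_
                rw [Fin.lt_def]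
                exact Nat.pos_of_ne_zero fun h => hl (Fin.ext h)
            have h7 : v0 ᵥ* A1 = (R * A1 * R') ⟨0, hs⟩ ᵥ* R := by
              have h8 := congrArg (fun M => (Pi.single ⟨0, hs⟩ 1 : Fin s → F) ᵥ* M) hint
              simp only [← vecMul_vecMul, hrow] at h8
              rw [h8]
              have h9 : v0 ᵥ* A1 ᵥ* R' = (R * A1 * R') ⟨0, hs⟩ := by
                rw [← hR0]
                rfl
              rw [h9]
            rw [h7, h6, smul_vecMul, hrow]
            congr 1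
            simp
        · exact KM_of_ne hj
      · intro h5
        apply h3
        have h6 := inter_aeval hint A2.charpoly
        have h7 := congrArg (fun M => (Pi.single ⟨0, hs⟩ 1 : Fin s → F) ᵥ* M) h6
        simp only [← vecMul_vecMul, hrow, h5, zero_vecMul] at h7
        exact h7
  refine hfac.transfer (P := fromBlocks R' 0 0 1) (P' := fromBlocks R 0 0 1) ?_ ?_ ?_
  · rw [fromBlocks_multiply]
    simp [h2]
  · rw [fromBlocks_multiply]
    simp [h1]
  · rw [fromBlocks_multiply, fromBlocks_multiply]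
    simp

end Cfsg.Agent.H324.TL
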