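import Cfsg.Agent.H324.TL.Row

/-!
# Theorem L (helper324, for S2464): flags, the observable pairs, and the intertwining maps
-/

set_option autoImplicit false

namespace Cfsg.Agent.H324.TL

open Matrix Polynomial Cfsg.Agent.H957.TL

variable {F : Type*} [Field F] {s r : ℕ}

/-- row `k` of `A` is `e_{k+1}`, or vanishes to the right of the diagonal -/
def IsFlag (A : Matrix (Fin s) (Fin s) F) : Prop :=
  ∀ k : Fin s, (∃ h : k.val + 1 < s, A k = Pi.single ⟨k.val + 1, h⟩ 1) ∨ ∀ j, k < j → A k j = 0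

open Classical in
/-- the correction -/
noncomputable def KM (A : Matrix (Fin s) (Fin s) F) : Matrix (Fin s) (Fin s) F := fun k j =>
  if j.val = k.val + 1 ∧ A k ≠ Pi.single j 1 then 1 else 0

theorem KM_of_ne {A : Matrix (Fin s) (Fin s) F} {k j : Fin s} (h : j.val ≠ k.val + 1) : KM A k j = 0 := by
  rw [KM, if_neg (fun h' => h h'.1)]

theorem KM_eq_one {A : Matrix (Fin s) (Fin s) F} {k j : Fin s} (h : j.val = k.val + 1) (h2 : A k j = 0) :
    KM A k j = 1 := by
  rw [KM, if_pos]
  refine ⟨h, fun h3 => ?_⟩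
  rw [h3, Pi.single_eq_same] at h2
  exact one_ne_zero h2

theorem KM_eq_zero {A : Matrix (Fin s) (Fin s) F} {k j : Fin s} (h2 : A k = Pi.single j 1) : KM A k j = 0 := by
  rw [KM, if_neg (fun h' => h'.2 h2)]

theorem KM_mulVec {A : Matrix (Fin s) (Fin s) F} {k j : Fin s} (h : j.val = k.val + 1) (u : Fin s → F) :
    (KM A *ᵥ u) k = KM A k j * u j := by
  rw [mulVec, dotProduct, Finset.sum_eq_single j]
  · intro i _ hi
    rw [KM_of_ne, zero_mul]
    intro h'
    exact hi (Fin.ext (h'.trans h.symm))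
  · intro h'
    exact absurd (Finset.mem_univ _) h'

/-- the row relation: lower part zero -/
theorem row_zero {A : Matrix (Fin s) (Fin s) F} {k : Fin s} (hA : ∀ j, k < j → A k j = 0) {u : Fin s → F}
    (hu : ∀ j, j ≤ k → u j = 0) : (A *ᵥ u) k = 0 := by
  rw [mulVec, dotProduct]
  refine Finset.sum_eq_zero fun j _ => ?_
  rcases le_or_gt j k with h | h
  · rw [hu j h, mul_zero]
  · rw [hA j h, zero_mul]

theorem row_single {A : Matrix (Fin s) (Fin s) F} {k j : Fin s} (hA : A k = Pi.single j 1) (u : Fin s → F) :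
    (A *ᵥ u) k = u j := by
  show A k ⬝ᵥ u = u j
  rw [hA, single_dotProduct, one_mul]

/-- induction on the coordinates -/
theorem all_zero (hs : 0 < s) {U : Submodule F (Fin s → F)} (h0 : ∀ u ∈ U, u ⟨0, hs⟩ = 0)
    (hstep : ∀ k j : Fin s, j.val = k.val + 1 → (∀ u ∈ U, ∀ i, i ≤ k → u i = 0) → ∀ u ∈ U, u j = 0) : U = ⊥ := by
  have h : ∀ n : ℕ, ∀ i : Fin s, i.val ≤ n → ∀ u ∈ U, u i = 0 := by
    intro n
    induction n with
    | zero =>
      intro i hi u hu
      have : i = ⟨0, hs⟩ := Fin.ext (by simpa using hi)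
      rw [this]
      exact h0 u hu
    | succ n ih =>
      intro i hi u hu
      rcases Nat.lt_or_ge i.val (n + 1) with h1 | h1
      · exact ih i (by omega) u hu
      · have hi' : i.val = n + 1 := by omega
        refine hstep ⟨n, by omega⟩ i hi' ?_ u hu
        intro v hv j hj
        exact ih j hj v hv
  rw [eq_bot_iff]
  intro u hu
  rw [Submodule.mem_bot]
  funext i
  exact h i.val i le_rfl u hu

theorem obs_S (hs : 0 < s) {A : Matrix (Fin s) (Fin s) F} (hA : IsFlag A) :
    Obs (A + 1 + KM A) (Pi.single ⟨0, hs⟩ 1) := by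
  refine obs_of fun U hU hφ => all_zero hs (fun u hu => ?_) ?_
  · have := hφ u hu
    rwa [single_dotProduct, one_mul] at this
  · intro k j hj ih u hu
    have h1 := ih _ (hU u hu) k le_rfl
    rw [add_mulVec, add_mulVec, one_mulVec, Pi.add_apply, Pi.add_apply, ih u hu k le_rfl, add_zero,
      KM_mulVec hj] at h1
    rcases hA k with ⟨h2, h3⟩ | h2
    · have e : (⟨k.val + 1, h2⟩ : Fin s) = j := Fin.ext hj.symm
      rw [e] at h3
      rwa [row_single h3, KM_eq_zero h3, zero_mul, add_zero] at h1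
    · rwa [row_zero h2 (ih u hu), zero_add, KM_eq_one hj (h2 j (by rw [Fin.lt_def]; omega)), one_mul] at h1

theorem det_one_KM (A : Matrix (Fin s) (Fin s) F) : (1 + KM A).det = 1 := by
  have h : (1 + KM A).BlockTriangular id := by
    intro i j hij
    have hij' : j < i := hij
    rw [Matrix.add_apply, one_apply_ne (ne_of_gt hij'), zero_add]
    refine KM_of_ne ?_
    have := Fin.lt_def.1 hij'
    omega
  rw [det_of_upperTriangular h]
  refine Finset.prod_eq_one fun i _ => ?_
  rw [Matrix.add_apply, one_apply_eq, KM_of_ne (by omega), add_zero]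

/-- an injective matrix preserving `U` is onto on `U` -/
theorem onto_of_inj {M : Matrix (Fin s) (Fin s) F} (hM : M.det ≠ 0) {U : Submodule F (Fin s → F)}
    (hU : ∀ u ∈ U, M *ᵥ u ∈ U) : ∀ w ∈ U, ∃ u ∈ U, M *ᵥ u = w := by
  have hinj : Function.Injective (Matrix.mulVecLin M) := by
    intro x y hxy
    have h1 : M⁻¹ *ᵥ (M *ᵥ x) = M⁻¹ *ᵥ (M *ᵥ y) := congrArg (fun z => M⁻¹ *ᵥ z) hxy
    rwa [mulVec_mulVec, mulVec_mulVec, nonsing_inv_mul _ (isUnit_iff_ne_zero.2 hM), one_mulVec, one_mulVec] at h1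
  have hle : U.map (Matrix.mulVecLin M) ≤ U := by
    rintro _ ⟨u, hu, rfl⟩
    exact hU u hu
  have heq : U.map (Matrix.mulVecLin M) = U := by
    apply Submodule.eq_of_le_of_finrank_eq hle
    exact (LinearEquiv.finrank_eq (Submodule.equivMapOfInjective _ hinj U)).symm
  intro w hw
  rw [← heq] at hw
  obtain ⟨u, hu, h⟩ := hw
  exact ⟨u, hu, h⟩

theorem obs_AS (hs : 0 < s) {A : Matrix (Fin s) (Fin s) F} (hAd : A.det ≠ 0) (hA : IsFlag A) :
    Obs (A⁻¹ * (A + 1 + KM A)) (Pi.single ⟨0, hs⟩ 1) := by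
  have hu' := isUnit_iff_ne_zero.2 hAd
  refine obs_of fun U hU hφ => all_zero hs (fun u hu => ?_) ?_
  · have := hφ u hu
    rwa [single_dotProduct, one_mul] at this
  · have hR : ∀ u ∈ U, (A⁻¹ * (1 + KM A)) *ᵥ u ∈ U := by
      intro u hu
      have h1 := hU u hu
      have e : A⁻¹ * (A + 1 + KM A) = 1 + A⁻¹ * (1 + KM A) := by
        rw [add_assoc, Matrix.mul_add, nonsing_inv_mul _ hu']
      rw [e, add_mulVec, one_mulVec] at h1
      have h2 := U.sub_mem h1 hu
      rwa [add_sub_cancel_left] at h2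
    have hRd : (A⁻¹ * (1 + KM A)).det ≠ 0 := by
      rw [det_mul, det_one_KM, mul_one, det_nonsing_inv, Ring.inverse_eq_inv']
      exact inv_ne_zero hAd
    intro k j hj ih u hu
    rcases hA k with ⟨h2, h3⟩ | h2
    · have e : (⟨k.val + 1, h2⟩ : Fin s) = j := Fin.ext hj.symm
      rw [e] at h3
      obtain ⟨w, hw, h4⟩ := onto_of_inj hRd hR u hu
      have h5 : A *ᵥ u = (1 + KM A) *ᵥ w := by
        rw [← h4, mulVec_mulVec, ← Matrix.mul_assoc, mul_nonsing_inv _ hu', Matrix.one_mul]
      have h6 := congrFun h5 k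
      rwa [row_single h3, add_mulVec, one_mulVec, Pi.add_apply, ih w hw k le_rfl, KM_mulVec hj, KM_eq_zero h3, zero_mul,
        add_zero] at h6
    · have h4 := hR u hu
      set w := (A⁻¹ * (1 + KM A)) *ᵥ u with hw
      have h5 : A *ᵥ w = (1 + KM A) *ᵥ u := by
        rw [hw, mulVec_mulVec, ← Matrix.mul_assoc, mul_nonsing_inv _ hu', Matrix.one_mul]
      have h6 := congrFun h5 k
      rw [row_zero h2 (ih w h4), add_mulVec, one_mulVec, Pi.add_apply, ih u hu k le_rfl, KM_mulVec hj,
        KM_eq_one hj (h2 j (by rw [Fin.lt_def]; omega)), one_mul, zero_add] at h6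
      exact h6.symm

/-- irreducible characteristic polynomial: no proper invariant subspace -/
theorem simple_of_irreducible {M : Matrix (Fin r) (Fin r) F} (hM : Irreducible M.charpoly)
    {U : Submodule F (Fin r → F)} (hU : ∀ u ∈ U, M *ᵥ u ∈ U) : U = ⊥ ∨ U = ⊤ := by
  by_cases h : U = ⊥
  · exact Or.inl h
  right
  obtain ⟨u, hu, hu0⟩ := Submodule.exists_mem_ne_zero_of_ne_bot h
  have hpow : ∀ i : ℕ, (M ^ i) *ᵥ u ∈ U := by
    intro i
    induction i with
    | zero => rwa [pow_zero, one_mulVec]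
    | succ i ih =>
      rw [pow_succ', ← mulVec_mulVec]
      exact hU _ ih
  have hli : LinearIndependent F (fun i : Fin r => (M ^ i.val) *ᵥ u) := by
    rw [Fintype.linearIndependent_iff]
    intro c hc
    let q : F[X] := ∑ i : Fin r, C (c i) * X ^ i.val
    have hq1 : aeval M q *ᵥ u = 0 := by
      rw [← hc]
      show aeval M (∑ i : Fin r, C (c i) * X ^ i.val) *ᵥ u = _
      rw [map_sum, Matrix.sum_mulVec]
      refine Finset.sum_congr rfl fun i _ => ?_
      rw [map_mul, aeval_C, map_pow, aeval_X, ← Algebra.smul_def, smul_mulVec]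
    have hq2 : q = 0 := by
      by_contra hq0
      have hnd : ¬ M.charpoly ∣ q := by
        intro hdvd
        have h1 := degree_le_of_dvd hdvd hq0
        have h2 : M.charpoly.degree = r := by
          have := charpoly_degree_eq_dim M
          rwa [Fintype.card_fin] at this
        have h3 : q.degree < r := by
          refine (degree_lt_iff_coeff_zero _ _).2 fun m hm => ?_
          show (∑ i : Fin r, C (c i) * X ^ i.val).coeff m = 0
          rw [finsetSum_coeff]
          refine Finset.sum_eq_zero fun i _ => ?_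
          rw [coeff_C_mul, coeff_X_pow, if_neg (by omega), mul_zero]
        rw [h2] at h1
        exact absurd (lt_of_le_of_lt h1 h3) (lt_irrefl _)
      obtain ⟨a, b, hab⟩ := (hM.coprime_iff_not_dvd).2 hnd
      have h1 := congrArg (fun t => aeval M t *ᵥ u) hab
      simp only [map_add, map_mul, map_one, aeval_self_charpoly, mul_zero, zero_add, one_mulVec, ← mulVec_mulVec, hq1,
        mulVec_zero] at h1
      exact hu0 h1.symm
    intro i
    have h1 := congrArg (fun t => coeff t i.val) hq2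
    simp only [coeff_zero] at h1
    have h2 : q.coeff i.val = c i := by
      show (∑ i : Fin r, C (c i) * X ^ i.val).coeff i.val = _
      rw [finsetSum_coeff, Finset.sum_eq_single i]
      · rw [coeff_C_mul, coeff_X_pow, if_pos rfl, mul_one]
      · intro j _ hj
        rw [coeff_C_mul, coeff_X_pow, if_neg (fun h => hj (Fin.ext h.symm)), mul_zero]
      · intro h
        exact absurd (Finset.mem_univ _) h
    rwa [h2] at h1
  have hspan := hli.span_eq_top_of_card_eq_finrank' (by rw [Module.finrank_fintype_fun_eq_card])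
  rw [eq_top_iff, ← hspan, Submodule.span_le]
  rintro _ ⟨i, rfl⟩
  exact hpow i.val

theorem simple_transpose {M : Matrix (Fin r) (Fin r) F} (hM : Irreducible M.charpoly) :
    Irreducible Mᵀ.charpoly := by
  rwa [charpoly_transpose]

theorem eq_bot_of_dot {M : Matrix (Fin r) (Fin r) F} (hM : Irreducible M.charpoly) {b : Fin r → F} (hb : b ≠ 0)
    {U : Submodule F (Fin r → F)} (hU : ∀ u ∈ U, M *ᵥ u ∈ U) (hbU : ∀ u ∈ U, b ⬝ᵥ u = 0) : U = ⊥ := by
  rcases simple_of_irreducible hM hU with h | h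
  · exact h
  · exfalso
    apply hb
    funext i
    have := hbU (Pi.single i 1) (by rw [h]; exact Submodule.mem_top)
    rwa [dotProduct_single, mul_one] at this

theorem obs_T {A2 : Matrix (Fin r) (Fin r) F} (hA2 : Irreducible A2.charpoly) {b : Fin r → F} (hb : b ≠ 0) (a : F)
    (κ : Fin r → F) : Obs (A2 + a • 1 + vecMulVec b κ)ᵀ b := by
  refine obs_of fun U hU hbU => eq_bot_of_dot (simple_transpose hA2) hb (fun u hu => ?_) hbU
  have h1 := hU u hu
  rw [transpose_add, transpose_add, transpose_smul, transpose_one, transpose_vecMulVec, add_mulVec, add_mulVec,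
    vecMulVec_mulVec, hbU u hu, MulOpposite.op_zero, zero_smul, add_zero, smul_mulVec, one_mulVec] at h1
  have h2 := U.sub_mem h1 (U.smul_mem a hu)
  rwa [add_sub_cancel_right] at h2

theorem obs_AT {A2 : Matrix (Fin r) (Fin r) F} (hA2 : Irreducible A2.charpoly) (hd : A2.det ≠ 0) {b : Fin r → F}
    (hb : b ≠ 0) {a : F} (ha : a ≠ 0) (κ : Fin r → F) : Obs ((A2ᵀ)⁻¹ * (A2 + a • 1 + vecMulVec b κ)ᵀ) b := by
  have hd' : A2ᵀ.det ≠ 0 := by rwa [det_transpose]
  have hu' := isUnit_iff_ne_zero.2 hd'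
  refine obs_of fun U hU hbU => eq_bot_of_dot (simple_transpose hA2) hb (fun u hu => ?_) hbU
  have hR : ∀ u ∈ U, (A2ᵀ)⁻¹ *ᵥ u ∈ U := by
    intro u hu
    have h1 := hU u hu
    rw [transpose_add, transpose_add, transpose_smul, transpose_one, transpose_vecMulVec, Matrix.mul_add,
      Matrix.mul_add, nonsing_inv_mul _ hu', add_mulVec, add_mulVec, ← mulVec_mulVec _ _ (vecMulVec κ b),
      vecMulVec_mulVec, hbU u hu, MulOpposite.op_zero, zero_smul, mulVec_zero, add_zero, one_mulVec, Matrix.mul_smul,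
      Matrix.mul_one, smul_mulVec] at h1
    have h2 := U.sub_mem h1 hu
    rw [add_sub_cancel_left] at h2
    have h3 := U.smul_mem a⁻¹ h2
    rwa [smul_smul, inv_mul_cancel₀ ha, one_smul] at h3
  have hRd : (A2ᵀ)⁻¹.det ≠ 0 := by
    rw [det_nonsing_inv, Ring.inverse_eq_inv']
    exact inv_ne_zero hd'
  obtain ⟨w, hw, h4⟩ := onto_of_inj hRd hR u hu
  rw [← h4, mulVec_mulVec, mul_nonsing_inv _ hu', one_mulVec]
  exact hw

end Cfsg.Agent.H324.TL
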