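import Cfsg.Agent.H324.TL.Block
import Cfsg.Agent.H642.TL.FindE

/-!
# Theorem L (helper324, for S2464): the main theorems

`A` invertible over a finite field with `|F| ≥ 3`, `p` irreducible: if `deg p ≥ 2`, `p(A) ≠ 0` and the kernel of `p(A)` has
dimension `> deg p` (at least two blocks), or if `deg p ≥ 3`, `p ∣ charpoly A`, `n > deg p`, then `A = X Y` with `X`, `Y` having
any prescribed characteristic polynomials with `f(0) g(0) = det A`.
-/

set_option autoImplicit false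

namespace Cfsg.Agent.H324.TL

open Matrix Polynomial Module Cfsg.Agent.H957.TL

variable {F : Type*} [Field F]

theorem exists_a [Finite F] (hF : 2 < Nat.card F) : ∃ a : F, a ≠ 0 ∧ a ≠ 1 := by
  classical
  have := Fintype.ofFinite F
  rw [Nat.card_eq_fintype_card] at hF
  have h1 : ({0, 1} : Finset F).card ≤ 2 := Finset.card_le_two
  obtain ⟨a, -, ha⟩ := Finset.exists_mem_notMem_of_card_lt_card (s := ({0, 1} : Finset F)) (t := Finset.univ)
    (by rw [Finset.card_univ]; omega)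
  refine ⟨a, fun h => ha ?_, fun h => ha ?_⟩
  · rw [h]; simp
  · rw [h]; simp

theorem fac_of_block {a : F} (ha0 : a ≠ 0) (ha1 : a ≠ 1) {n s : ℕ} {A : Matrix (Fin n) (Fin n) F} (hA : A.det ≠ 0)
    {p : F[X]} (hp : Irreducible p) (hd : 2 ≤ p.natDegree) {A1 : Matrix (Fin s) (Fin s) F}
    {A2 : Matrix (Fin p.natDegree) (Fin p.natDegree) F}
    {Ps : Matrix (Fin s) (Fin p.natDegree) F} {P : Matrix (Fin n) (Fin s ⊕ Fin p.natDegree) F}
    {P' : Matrix (Fin s ⊕ Fin p.natDegree) (Fin n) F} (hs : 0 < s) (hn : s + p.natDegree = n)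
    (h1 : P * P' = 1) (h2 : P' * P = 1) (h3 : P' * A * P = fromBlocks A1 Ps 0 A2) (h4 : A2.charpoly = p)
    (hcase : 3 ≤ p.natDegree ∨ aeval A1 p ≠ 0) {f g : F[X]} (hf : f.Monic) (hg : g.Monic) (hfn : f.natDegree = n)
    (hgn : g.natDegree = n) (hdet : f.coeff 0 * g.coeff 0 = A.det) : Fac A f g := by
  have hdA : A1.det * A2.det = A.det := by
    rw [← det_fromBlocks_zero₂₁ A1 Ps A2, ← h3]
    have h6 : (P' * A * P).charpoly = A.charpoly := charpoly_conj h2 h1 A
    rw [det_eq_sign_charpoly_coeff, h6, det_eq_sign_charpoly_coeff A, card_eq_of_inv h2 h1]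
  have hA' : A1.det * A2.det ≠ 0 := by rwa [hdA]
  have hirr : Irreducible A2.charpoly := by rwa [h4]
  have hcase' : 3 ≤ p.natDegree ∨ aeval A1 A2.charpoly ≠ 0 := by rwa [h4]
  have h := block_fac hs hd ha0 ha1 (left_ne_zero_of_mul hA') (right_ne_zero_of_mul hA') hirr hcase' Ps hf hg
    (by rw [hfn, hn]) (by rw [hgn, hn]) (by rw [hdet, hdA])
  exact h.transfer h1 h2 h3

/-- **At least two blocks.** -/
theorem prod_deg_two [Finite F] (hF : 2 < Nat.card F) {n : ℕ} (A : Matrix (Fin n) (Fin n) F) (hA : A.det ≠ 0)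
    (p : F[X]) (hp : Irreducible p) (hp1 : p.Monic) (hd : 2 ≤ p.natDegree)
    (hk : p.natDegree < finrank F (LinearMap.ker (Matrix.toLin' (aeval A p)))) (hne : aeval A p ≠ 0)
    {f g : F[X]} (hf : f.Monic) (hg : g.Monic) (hfn : f.natDegree = n) (hgn : g.natDegree = n)
    (hdet : f.coeff 0 * g.coeff 0 = A.det) : Fac A f g := by
  obtain ⟨a, ha0, ha1⟩ := exists_a hF
  obtain ⟨s, A1, A2, Ps, P, P', hs, hn, h1, h2, h3, h4, h5⟩ := H642.TL.exists_block A p hp hp1 hk hne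
  exact fac_of_block ha0 ha1 hA hp hd hs hn h1 h2 h3 h4 (Or.inr h5) hf hg hfn hgn hdet

/-- **Degree at least three.** -/
theorem prod_deg_three [Finite F] (hF : 2 < Nat.card F) {n : ℕ} (A : Matrix (Fin n) (Fin n) F) (hA : A.det ≠ 0)
    (p : F[X]) (hp : Irreducible p) (hp1 : p.Monic) (hd : 3 ≤ p.natDegree) (hdvd : p ∣ A.charpoly)
    (hn : p.natDegree < n) {f g : F[X]} (hf : f.Monic) (hg : g.Monic) (hfn : f.natDegree = n) (hgn : g.natDegree = n)
    (hdet : f.coeff 0 * g.coeff 0 = A.det) : Fac A f g := by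
  obtain ⟨a, ha0, ha1⟩ := exists_a hF
  obtain ⟨s, A1, A2, Ps, P, P', hs, hn, h1, h2, h3, h4⟩ := H642.TL.exists_block' A p hp hp1 hdvd hn
  exact fac_of_block ha0 ha1 hA hp (by omega) hs hn h1 h2 h3 h4 (Or.inl hd) hf hg hfn hgn hdet

end Cfsg.Agent.H324.TL
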