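import Cfsg.Agent.H324.TL.Main
import Cfsg.Agent.H957.TL.FindSq

/-!
# Theorem L (helper324, for S2464): `charpoly A = p ^ m`, `deg p ≥ 2`, `p(A) ≠ 0`, not (`n = 4`, `deg p = 2`)
-/

set_option autoImplicit false

namespace Cfsg.Agent.H324.TL

open Matrix Polynomial Module Cfsg.Agent.H957.TL

variable {F : Type*} [Field F]

theorem fac_pow [Finite F] (hF : 2 < Nat.card F) {n : ℕ} (A : Matrix (Fin n) (Fin n) F) (hA : A.det ≠ 0)
    (p : F[X]) (hp : Irreducible p) (hp1 : p.Monic) (hd : 2 ≤ p.natDegree) {m : ℕ} (hpm : A.charpoly = p ^ m)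
    (hne : aeval A p ≠ 0) (h4 : n ≠ 4 ∨ 3 ≤ p.natDegree)
    {f g : F[X]} (hf : f.Monic) (hg : g.Monic) (hfn : f.natDegree = n) (hgn : g.natDegree = n)
    (hdet : f.coeff 0 * g.coeff 0 = A.det) : Fac A f g := by
  have hn : n = m * p.natDegree := by
    have h := congrArg natDegree hpm
    rwa [charpoly_natDegree_eq_dim, Fintype.card_fin, natDegree_pow] at h
  have hm0 : m ≠ 0 := by
    rintro rfl
    rw [zero_mul] at hn
    subst hn
    exact hne (Subsingleton.elim _ _)
  have hm1 : m ≠ 1 := by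
    rintro rfl
    rw [pow_one] at hpm
    apply hne
    rw [← hpm, aeval_self_charpoly]
  rcases Nat.lt_or_ge p.natDegree 3 with h3 | h3
  · obtain ⟨a, ha0, ha1⟩ := exists_a hF
    have hd2 : p.natDegree = 2 := by omega
    have hn4 : n ≠ 4 := h4.resolve_right (by omega)
    obtain ⟨s, A1, A2, Ps, P, P', hs, hn, h1, h2, h3, h4, h5⟩ := exists_block_all A p hp hp1 hpm hne (by
      rw [hd2]; exact hn4)
    exact fac_of_block ha0 ha1 hA hp hd hs hn h1 h2 h3 h4 (Or.inr h5) hf hg hfn hgn hdet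
  · refine prod_deg_three hF A hA p hp hp1 h3 (by rw [hpm]; exact dvd_pow_self p hm0) ?_ hf hg hfn hgn hdet
    rw [hn]
    have : 2 ≤ m := by omega
    nlinarith

end Cfsg.Agent.H324.TL
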