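import Cfsg.Agent.H957.TL.Det
import Cfsg.Agent.H957.TL.Span
import Cfsg.Agent.H957.TL.Obs

/-!
# Theorem L (helper324, for S2464): rows of adjugates
-/

set_option autoImplicit false

namespace Cfsg.Agent.H324.TL

open Matrix Polynomial Cfsg.Agent.H957.TL

variable {F : Type*} [Field F] {k : ℕ}

/-- `(T, ε)` observable: the version with invariant subspaces -/
theorem obs_of {T : Matrix (Fin k) (Fin k) F} {eps : Fin k → F}
    (h : ∀ U : Submodule F (Fin k → F), (∀ u ∈ U, T *ᵥ u ∈ U) → (∀ u ∈ U, eps ⬝ᵥ u = 0) → U = ⊥) : Obs T eps := by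
  intro v hv
  let U : Submodule F (Fin k → F) :=
    { carrier := {u | ∀ i : ℕ, eps ⬝ᵥ ((T ^ i) *ᵥ u) = 0}
      zero_mem' := fun i => by rw [mulVec_zero, dotProduct_zero]
      add_mem' := fun {a b} ha hb i => by rw [mulVec_add, dotProduct_add, ha i, hb i, add_zero]
      smul_mem' := fun c x hx i => by rw [mulVec_smul, dotProduct_smul, hx i, smul_zero] }
  have h1 : U = ⊥ := by
    refine h U (fun u hu i => ?_) (fun u hu => ?_)
    · have := hu (i + 1)
      rwa [pow_succ, ← mulVec_mulVec] at this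
    · have := hu 0
      rwa [pow_zero, one_mulVec] at this
  have h2 : v ∈ U := hv
  rw [h1] at h2
  exact (Submodule.mem_bot F).1 h2

theorem pen_one (S : Matrix (Fin k) (Fin k) F) : pen 1 S = charmatrix S := by
  ext i j : 2
  rw [pen, charmatrix_apply]
  by_cases h : i = j
  · subst h
    simp [sub_eq_add_neg]
  · simp [h, sub_eq_add_neg]

theorem row_mul_pen (eps : Fin k → F) (J B : Matrix (Fin k) (Fin k) F) :
    H957.TL.row eps J B ᵥ* pen J B = (pen J B).det • (C ∘ eps) := by
  rw [H957.TL.row, vecMul_vecMul, adjugate_mul, vecMul_smul, vecMul_one]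

theorem map_C_mulVec (M : Matrix (Fin k) (Fin k) F) (v : Fin k → F) : M.map C *ᵥ (C ∘ v) = C ∘ (M *ᵥ v) := by
  funext i
  exact (RingHom.map_mulVec C M v i).symm

/-- the entries of `ε adj (X - S)` are independent -/
theorem row_indep_one {eps : Fin k → F} {S : Matrix (Fin k) (Fin k) F} (hobs : Obs S eps) :
    LinearIndependent F (H957.TL.row eps 1 S) := by
  rw [Fintype.linearIndependent_iff]
  intro c hc
  have hc' : (C ∘ eps) ⬝ᵥ ((pen 1 S).adjugate *ᵥ (C ∘ c)) = 0 := by
    rw [dotProduct_mulVec, dotProduct, ← hc]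
    refine Finset.sum_congr rfl fun i _ => ?_
    rw [smul_eq_C_mul, mul_comm]
    rfl
  have h0 : c = 0 := by
    apply hobs
    intro N
    let P : ℕ → Fin k → F[X] := fun N => ∑ i ∈ Finset.range N, (X : F[X]) ^ (N - 1 - i) • (C ∘ ((S ^ i) *ᵥ c))
    have hP : ∀ N, pen 1 S *ᵥ P N = (X : F[X]) ^ N • (C ∘ c) - C ∘ ((S ^ N) *ᵥ c) := by
      intro N
      induction N with
      | zero =>
        show pen 1 S *ᵥ (∑ i ∈ Finset.range 0, _) = _
        rw [Finset.range_zero, Finset.sum_empty, mulVec_zero, pow_zero, one_smul, pow_zero, one_mulVec, sub_self]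
      | succ N ih =>
        have e : P (N + 1) = (X : F[X]) • P N + C ∘ ((S ^ N) *ᵥ c) := by
          show (∑ i ∈ Finset.range (N + 1), (X : F[X]) ^ (N + 1 - 1 - i) • (C ∘ ((S ^ i) *ᵥ c))) =
            (X : F[X]) • (∑ i ∈ Finset.range N, (X : F[X]) ^ (N - 1 - i) • (C ∘ ((S ^ i) *ᵥ c))) + _
          rw [Finset.sum_range_succ, Finset.smul_sum]
          congr 1
          · refine Finset.sum_congr rfl fun i hi => ?_
            rw [smul_smul, ← pow_succ']
            congr 2
            have := Finset.mem_range.1 hi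
            omega
          · rw [Nat.add_sub_cancel, Nat.sub_self, pow_zero, one_smul]
        rw [e, mulVec_add, mulVec_smul, ih, pen_mulVec, one_mulVec, smul_sub, smul_smul, ← pow_succ', mulVec_mulVec,
          ← pow_succ']
        abel
    have h1 : (pen 1 S).adjugate *ᵥ (pen 1 S *ᵥ P (N + 1)) = (pen 1 S).det • P (N + 1) := by
      rw [mulVec_mulVec, adjugate_mul, smul_mulVec, one_mulVec]
    rw [hP, mulVec_sub, mulVec_smul] at h1
    have h2 := congrArg (fun w => (C ∘ eps) ⬝ᵥ w) h1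
    simp only [dotProduct_sub, dotProduct_smul, smul_eq_mul, hc', mul_zero, zero_sub] at h2
    -- degrees
    have h3 : (C ∘ eps) ⬝ᵥ ((pen 1 S).adjugate *ᵥ (C ∘ ((S ^ (N + 1)) *ᵥ c))) ∈ degreeLT F k := by
      rw [dotProduct_mulVec, dotProduct]
      refine Submodule.sum_mem _ fun j _ => ?_
      have : ((C ∘ eps) ᵥ* (pen 1 S).adjugate) j * (C ∘ ((S ^ (N + 1)) *ᵥ c)) j =
          ((S ^ (N + 1)) *ᵥ c) j • H957.TL.row eps 1 S j := by
        rw [smul_eq_C_mul, mul_comm]
        rfl
      rw [this]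
      exact Submodule.smul_mem _ _ (row_mem eps 1 S j)
    have h4 : (pen 1 S).det * ((C ∘ eps) ⬝ᵥ P (N + 1)) ∈ degreeLT F k := by
      rw [← h2]
      exact Submodule.neg_mem _ h3
    have h5 : (C ∘ eps) ⬝ᵥ P (N + 1) = 0 := by
      by_contra h6
      rw [mem_degreeLT, degree_mul, pen_one] at h4
      have h7 : (charmatrix S).det.degree = k := by
        have := charpoly_degree_eq_dim S
        rwa [Fintype.card_fin] at this
      rw [h7] at h4
      have h8 : (0 : WithBot ℕ) ≤ ((C ∘ eps) ⬝ᵥ P (N + 1)).degree := zero_le_degree_iff.2 h6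
      have h9 : (k : WithBot ℕ) ≤ k + ((C ∘ eps) ⬝ᵥ P (N + 1)).degree := le_add_of_nonneg_right h8
      exact absurd (lt_of_le_of_lt h9 h4) (lt_irrefl _)
    -- the constant coefficient
    have h6 : ((C ∘ eps) ⬝ᵥ P (N + 1)).coeff 0 = eps ⬝ᵥ ((S ^ N) *ᵥ c) := by
      show ((C ∘ eps) ⬝ᵥ (∑ i ∈ Finset.range (N + 1), (X : F[X]) ^ (N + 1 - 1 - i) • (C ∘ ((S ^ i) *ᵥ c)))).coeff 0 = _
      rw [dotProduct_sum, finsetSum_coeff, Finset.sum_eq_single N]
      · rw [Nat.add_sub_cancel, Nat.sub_self, pow_zero, one_smul, ← RingHom.map_dotProduct, coeff_C_zero]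
      · intro b hb hbN
        have hlt : b < N := lt_of_le_of_ne (Nat.lt_succ_iff.1 (Finset.mem_range.1 hb)) hbN
        rw [dotProduct_smul, smul_eq_mul, coeff_zero_eq_eval_zero, eval_mul, eval_pow, eval_X, zero_pow (by omega),
          zero_mul]
      · intro h
        exact absurd (Finset.mem_range.2 (Nat.lt_succ_self N)) h
    rw [← h6, h5, coeff_zero]
  intro i
  rw [h0]
  rfl

end Cfsg.Agent.H324.TL
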