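import Cfsg.Agent.H324.TL.Row
import Cfsg.Agent.H957.TL.Glue

/-!
# Theorem L (helper324, for S2464): the linear system

`A = [[A₁, Ψ₀], [0, A₂]]`; `X = [[S, Ξ], [b φ, T + b κ]]`. If the only `Γ` with `Γ A₁ = A₂ Γ`, `T Γ v - Γ S v ∈ F b` on `ker φ`
is `0` then `A` is the product of two matrices with any prescribed characteristic polynomials.
-/

set_option autoImplicit false

namespace Cfsg.Agent.H324.TL

open Matrix Polynomial Cfsg.Agent.H957.TL

variable {F : Type*} [Field F] {s r : ℕ}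

theorem sum_form (m : Fin s → F[X]) (n : Fin r → F[X]) (Q : Matrix (Fin s) (Fin r) F) :
    m ⬝ᵥ (Q.map C *ᵥ n) = ∑ i, ∑ j, Q i j • (m i * n j) := by
  rw [dotProduct]
  refine Finset.sum_congr rfl fun i _ => ?_
  rw [mulVec, dotProduct, Finset.mul_sum]
  refine Finset.sum_congr rfl fun j _ => ?_
  rw [Matrix.map_apply, smul_eq_C_mul]
  ring

theorem row_transpose (b : Fin r → F) (J B : Matrix (Fin r) (Fin r) F) :
    H957.TL.row b Jᵀ Bᵀ = (pen J B).adjugate *ᵥ (C ∘ b) := by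
  have e : pen Jᵀ Bᵀ = (pen J B)ᵀ := by
    ext i j : 2
    simp [pen]
  rw [H957.TL.row, e, ← adjugate_transpose, vecMul_transpose]

theorem diff_mem {n : ℕ} (hn : 0 < n) {f g : F[X]} (hf : f.Monic) (hg : g.Monic) (hfn : f.natDegree = n)
    (hgn : g.natDegree = n) (h : f.nextCoeff = g.nextCoeff) : f - g ∈ degreeLT F (n - 1) := by
  rw [mem_degreeLT, degree_lt_iff_coeff_zero]
  intro m hm
  rw [coeff_sub]
  rcases lt_trichotomy m n with h1 | h1 | h1
  · have e : m = n - 1 := by omega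
    rw [nextCoeff_of_natDegree_pos (by omega), nextCoeff_of_natDegree_pos (by omega), hfn, hgn] at h
    rw [e, h, sub_self]
  · have h2 : f.coeff m = 1 := by rw [h1, ← hfn]; exact hf.coeff_natDegree
    have h3 : g.coeff m = 1 := by rw [h1, ← hgn]; exact hg.coeff_natDegree
    rw [h2, h3, sub_self]
  · rw [coeff_eq_zero_of_natDegree_lt (by omega), coeff_eq_zero_of_natDegree_lt (by omega), sub_self]

/-- the matrix `X` -/
def XM (S : Matrix (Fin s) (Fin s) F) (Xi : Matrix (Fin s) (Fin r) F) (b : Fin r → F) (φ : Fin s → F)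
    (X2 : Matrix (Fin r) (Fin r) F) : Matrix (Fin s ⊕ Fin r) (Fin s ⊕ Fin r) F :=
  fromBlocks S Xi (vecMulVec b φ) X2

theorem charpoly_XM (S : Matrix (Fin s) (Fin s) F) (Xi : Matrix (Fin s) (Fin r) F) (b : Fin r → F) (φ : Fin s → F)
    (X2 : Matrix (Fin r) (Fin r) F) : (XM S Xi b φ X2).charpoly =
      S.charpoly * X2.charpoly - ∑ i, ∑ j, Xi i j • (H957.TL.row φ 1 S i * H957.TL.row b 1 X2ᵀ j) := by
  have e : charmatrix (XM S Xi b φ X2) =
      fromBlocks (charmatrix S) (-(Xi.map C)) ((-1 : F[X]) • vecMulVec (C ∘ b) (C ∘ φ)) (charmatrix X2) := by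
    rw [XM, charmatrix_fromBlocks]
    congr 1
    ext i j : 2
    simp [vecMulVec]
  rw [Matrix.charpoly, e, det_rank1 _ _ _ _ _ _ (charpoly_monic S).ne_zero (charpoly_monic X2).ne_zero,
    ← Matrix.charpoly, ← Matrix.charpoly, ← sum_form, neg_mulVec, mulVec_neg, dotProduct_neg]
  have h1 : H957.TL.row b 1 X2ᵀ = (charmatrix X2).adjugate *ᵥ (C ∘ b) := by
    have := row_transpose b 1 X2
    rwa [transpose_one, pen_one] at this
  rw [h1, H957.TL.row, pen_one, ← dotProduct_mulVec]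
  ring

theorem det_pencil (S A1 : Matrix (Fin s) (Fin s) F) (Xi Ps : Matrix (Fin s) (Fin r) F) (b : Fin r → F) (φ : Fin s → F)
    (X2 A2 : Matrix (Fin r) (Fin r) F) (h1 : (pen S A1).det ≠ 0) (h2 : (pen X2 A2).det ≠ 0) :
    ((X : F[X]) • (XM S Xi b φ X2).map C - (fromBlocks A1 Ps 0 A2).map C).det =
      (pen S A1).det * (pen X2 A2).det - X * (X * ∑ i, ∑ j, Xi i j • (H957.TL.row φ S A1 i * H957.TL.row b X2ᵀ A2ᵀ j)) +
        X * ∑ i, ∑ j, Ps i j • (H957.TL.row φ S A1 i * H957.TL.row b X2ᵀ A2ᵀ j) := by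
  have e : (X : F[X]) • (XM S Xi b φ X2).map C - (fromBlocks A1 Ps 0 A2).map C =
      fromBlocks (pen S A1) ((X : F[X]) • Xi.map C - Ps.map C) ((X : F[X]) • vecMulVec (C ∘ b) (C ∘ φ)) (pen X2 A2) := by
    ext i j : 2
    rcases i with i | i <;> rcases j with j | j <;> simp [XM, pen, vecMulVec, sub_eq_add_neg]
  rw [e, det_rank1 _ _ _ _ _ _ h1 h2, sub_mulVec, mulVec_sub, dotProduct_sub, smul_mulVec, mulVec_smul, dotProduct_smul,
    smul_eq_mul, ← sum_form, ← sum_form, row_transpose, H957.TL.row, ← dotProduct_mulVec, ← dotProduct_mulVec]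
  ring

theorem det_pen_ne (J B : Matrix (Fin s) (Fin s) F) (hB : B.det ≠ 0) : (pen J B).det ≠ 0 := by
  intro h
  have h1 := det_pen_coeff J B
  rw [h, coeff_zero, det_neg] at h1
  exact mul_ne_zero (pow_ne_zero _ (neg_ne_zero.2 one_ne_zero)) hB h1.symm

/-- the duality argument: the twisted perturbations are enough -/
theorem exists_y (hs : 0 < s) (hr : 0 < r) {A1 S : Matrix (Fin s) (Fin s) F} {φ : Fin s → F}
    {A2 X2 : Matrix (Fin r) (Fin r) F} {b : Fin r → F} (hA1 : A1.det ≠ 0) (hA2 : A2.det ≠ 0)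
    (o1 : Obs (A1⁻¹ * S) φ) (c1 : Obs ((A2ᵀ)⁻¹ * X2ᵀ) b)
    (hG : ∀ Γ : Matrix (Fin r) (Fin s) F, Γ * A1 = A2 * Γ →
      (∀ v, φ ⬝ᵥ v = 0 → ∃ c : F, X2 *ᵥ (Γ *ᵥ v) - Γ *ᵥ (S *ᵥ v) = c • b) → Γ = 0)
    {G : F[X]} (hGd : G ∈ degreeLT F (s + r - 1)) :
    ∃ y : Matrix (Fin s) (Fin r) F,
      ∑ i, ∑ j, (A1 * y - y * A2) i j • (H957.TL.row φ S A1 i * H957.TL.row b X2ᵀ A2ᵀ j) = G := by
  set m := H957.TL.row φ S A1 with hm
  set n := H957.TL.row b X2ᵀ A2ᵀ with hn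
  let Θ : Matrix (Fin s) (Fin r) F →ₗ[F] F[X] :=
    { toFun := fun y => ∑ i, ∑ j, (A1 * y - y * A2) i j • (m i * n j)
      map_add' := by
        intro y y'
        rw [← Finset.sum_add_distrib]
        refine Finset.sum_congr rfl fun i _ => ?_
        rw [← Finset.sum_add_distrib]
        refine Finset.sum_congr rfl fun j _ => ?_
        rw [← add_smul, Matrix.mul_add, Matrix.add_mul]
        congr 1
        simp only [Matrix.sub_apply, Matrix.add_apply]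
        ring
      map_smul' := by
        intro c y
        rw [Finset.smul_sum]
        refine Finset.sum_congr rfl fun i _ => ?_
        rw [Finset.smul_sum]
        refine Finset.sum_congr rfl fun j _ => ?_
        rw [Matrix.mul_smul, Matrix.smul_mul, ← smul_sub, Matrix.smul_apply, smul_eq_mul, mul_smul]
        rfl }
  by_contra hno
  have h1 : G ∉ LinearMap.range Θ := fun ⟨y, hy⟩ => hno ⟨y, hy⟩
  obtain ⟨ℓ, hℓ, hℓ0⟩ := Submodule.exists_dual_map_eq_bot_of_notMem h1 inferInstance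
  have h2 : ∀ y, ℓ (Θ y) = 0 := by
    intro y
    have : ℓ (Θ y) ∈ (LinearMap.range Θ).map ℓ := ⟨Θ y, ⟨y, rfl⟩, rfl⟩
    rw [hℓ0] at this
    exact this
  let Λ : Matrix (Fin r) (Fin s) F := fun j i => ℓ (m i * n j)
  have hΛ : ∀ Q : Matrix (Fin s) (Fin r) F, ℓ (∑ i, ∑ j, Q i j • (m i * n j)) = (Q * Λ).trace := by
    intro Q
    rw [map_sum, trace]
    refine Finset.sum_congr rfl fun i _ => ?_
    rw [map_sum, diag_apply, mul_apply]
    exact Finset.sum_congr rfl fun j _ => by rw [map_smul, smul_eq_mul]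
  -- `Λ` intertwines
  have h3 : Λ * A1 = A2 * Λ := by
    have h4 : ∀ y : Matrix (Fin s) (Fin r) F, (y * (Λ * A1 - A2 * Λ)).trace = 0 := by
      intro y
      have h5 := h2 y
      have h6 : ℓ (Θ y) = ((A1 * y - y * A2) * Λ).trace := hΛ _
      rw [h6, Matrix.sub_mul, trace_sub] at h5
      rw [Matrix.mul_sub, trace_sub, ← h5, Matrix.mul_assoc A1, trace_mul_comm A1, Matrix.mul_assoc, Matrix.mul_assoc]
    rw [← sub_eq_zero]
    ext j i
    have h5 := h4 (Matrix.single i j 1)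
    rw [Matrix.trace_single_mul] at h5
    simpa using h5
  -- pencils
  have p1 : m ᵥ* pen S A1 = (pen S A1).det • (C ∘ φ) := row_mul_pen φ S A1
  have p2 : pen X2 A2 *ᵥ n = (pen X2 A2).det • (C ∘ b) := by
    rw [hn, row_transpose, mulVec_mulVec, mul_adjugate, smul_mulVec, one_mulVec]
  have h5 : ∀ v : Fin s → F, φ ⬝ᵥ v = 0 → X * (m ⬝ᵥ (C ∘ (S *ᵥ v))) = m ⬝ᵥ (C ∘ (A1 *ᵥ v)) := by
    intro v hv
    have h6 := congrArg (fun w => w ⬝ᵥ (C ∘ v)) p1
    simp only [smul_dotProduct] at h6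
    rw [← RingHom.map_dotProduct, hv, C_0, smul_zero, ← dotProduct_mulVec, pen_mulVec, dotProduct_sub, dotProduct_smul,
      smul_eq_mul] at h6
    exact sub_eq_zero.1 h6
  have h6 : ∀ (v : Fin s → F) (j : Fin r), (Λ *ᵥ v) j = ℓ ((m ⬝ᵥ (C ∘ v)) * n j) := by
    intro v j
    rw [mulVec, dotProduct, dotProduct, Finset.sum_mul, map_sum]
    refine Finset.sum_congr rfl fun i _ => ?_
    show ℓ (m i * n j) * v i = ℓ (m i * C (v i) * n j)
    have : m i * C (v i) * n j = v i • (m i * n j) := by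
      rw [smul_eq_C_mul]; ring
    rw [this, map_smul, smul_eq_mul, mul_comm]
  have h6' : ∀ (M : Matrix (Fin r) (Fin r) F) (q : F[X]) (j : Fin r), ∑ l, M j l * ℓ (q * n l) =
      ℓ (q * (M.map C *ᵥ n) j) := by
    intro M q j
    rw [mulVec, dotProduct, Finset.mul_sum, map_sum]
    refine Finset.sum_congr rfl fun l _ => ?_
    have : q * (M.map C j l * n l) = M j l • (q * n l) := by
      rw [smul_eq_C_mul, Matrix.map_apply]; ring
    rw [this, map_smul, smul_eq_mul]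
  have h7 : ∀ v : Fin s → F, φ ⬝ᵥ v = 0 →
      X2 *ᵥ (Λ *ᵥ (A1 *ᵥ v)) - A2 *ᵥ (Λ *ᵥ (S *ᵥ v)) = ℓ ((m ⬝ᵥ (C ∘ (S *ᵥ v))) * (pen X2 A2).det) • b := by
    intro v hv
    funext j
    rw [Pi.sub_apply, Pi.smul_apply, smul_eq_mul]
    have e1 : (X2 *ᵥ (Λ *ᵥ (A1 *ᵥ v))) j = ℓ ((m ⬝ᵥ (C ∘ (A1 *ᵥ v))) * (X2.map C *ᵥ n) j) := by
      rw [← h6', mulVec, dotProduct]
      exact Finset.sum_congr rfl fun l _ => by rw [h6]
    have e2 : (A2 *ᵥ (Λ *ᵥ (S *ᵥ v))) j = ℓ ((m ⬝ᵥ (C ∘ (S *ᵥ v))) * (A2.map C *ᵥ n) j) := by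
      rw [← h6', mulVec, dotProduct]
      exact Finset.sum_congr rfl fun l _ => by rw [h6]
    rw [e1, e2, ← map_sub, ← h5 v hv]
    have e3 := congrFun p2 j
    have e0 : pen X2 A2 *ᵥ n = (X : F[X]) • (X2.map C *ᵥ n) + (-A2).map C *ᵥ n := by
      rw [pen, add_mulVec, smul_mulVec]
    rw [e0] at e3
    have e4 : ((-A2).map C *ᵥ n) j = -((A2.map C *ᵥ n) j) := by
      have : (-A2).map (C : F →+* F[X]) = -(A2.map C) := by ext a c : 2; simp
      rw [this, neg_mulVec]; rfl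
    rw [Pi.add_apply, e4, Pi.smul_apply, Pi.smul_apply, smul_eq_mul, smul_eq_mul, Function.comp_apply] at e3
    have e5 : X * (m ⬝ᵥ (C ∘ (S *ᵥ v))) * (X2.map C *ᵥ n) j - (m ⬝ᵥ (C ∘ (S *ᵥ v))) * (A2.map C *ᵥ n) j =
        b j • ((m ⬝ᵥ (C ∘ (S *ᵥ v))) * (pen X2 A2).det) := by
      rw [smul_eq_C_mul]
      linear_combination (m ⬝ᵥ (C ∘ (S *ᵥ v))) * e3
    rw [e5, map_smul, smul_eq_mul, mul_comm]
  have h8 : A2 * Λ = 0 := by
    refine hG _ ?_ ?_
    · rw [Matrix.mul_assoc, h3]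
    · intro v hv
      refine ⟨ℓ ((m ⬝ᵥ (C ∘ (S *ᵥ v))) * (pen X2 A2).det), ?_⟩
      have e1 : (A2 * Λ) *ᵥ v = Λ *ᵥ (A1 *ᵥ v) := by rw [← h3, ← mulVec_mulVec]
      have e2 : (A2 * Λ) *ᵥ (S *ᵥ v) = A2 *ᵥ (Λ *ᵥ (S *ᵥ v)) := (mulVec_mulVec _ _ _).symm
      rw [e1, e2, h7 v hv]
  have h9 : Λ = 0 := by
    have h10 : A2⁻¹ * (A2 * Λ) = Λ := by
      rw [← Matrix.mul_assoc, nonsing_inv_mul _ (isUnit_iff_ne_zero.2 hA2), Matrix.one_mul]
    rw [← h10, h8, Matrix.mul_zero]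
  -- contradiction
  obtain ⟨Q, hQ⟩ := span_mul m n (row_indep hA1 o1) (row_mem φ S A1)
    (row_indep (by rw [det_transpose]; exact hA2) c1) (row_mem b X2ᵀ A2ᵀ) hs hr hGd
  apply hℓ
  rw [← hQ, hΛ, h9, Matrix.mul_zero, trace_zero]

/-- the pencil determinant and the characteristic polynomial of `X⁻¹ A` -/
theorem det_charpoly {ι : Type*} [Fintype ι] [DecidableEq ι] (X0 A : Matrix ι ι F) (h : X0.det ≠ 0) :
    ((X : F[X]) • X0.map C - A.map C).det = C X0.det * (X0⁻¹ * A).charpoly := by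
  have h1 : (X : F[X]) • X0.map C - A.map C = X0.map C * charmatrix (X0⁻¹ * A) := by
    have h2 : (X0⁻¹ * A).map (C : F →+* F[X]) = X0⁻¹.map C * A.map C := Matrix.map_mul
    have h3 : X0.map (C : F →+* F[X]) * X0⁻¹.map C = 1 := by
      rw [← Matrix.map_mul, mul_nonsing_inv _ (isUnit_iff_ne_zero.2 h)]
      exact Matrix.map_one _ C_0 C_1
    rw [charmatrix, Matrix.mul_sub]
    congr 1
    · ext i j : 2
      simp [Matrix.scalar_apply, Matrix.mul_diagonal]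
    · rw [RingHom.mapMatrix_apply, h2, ← Matrix.mul_assoc, h3, Matrix.one_mul]
  rw [h1, det_mul, Matrix.charpoly]
  congr 1
  rw [← RingHom.mapMatrix_apply, ← RingHom.map_det]

theorem coeff_pencil_zero {ι : Type*} [Fintype ι] [DecidableEq ι] (X0 A : Matrix ι ι F) :
    ((X : F[X]) • X0.map C - A.map C).det.coeff 0 = (-A).det := by
  have e : (X : F[X]) • X0.map C - A.map C = (X : F[X]) • X0.map C + (-A).map C := by
    ext i j : 2
    simp [sub_eq_add_neg]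
  rw [e]
  exact coeff_det_X_add_C_zero X0 (-A)

/-- **The linear system.** -/
theorem solve (hs : 0 < s) (hr : 0 < r) {A1 S : Matrix (Fin s) (Fin s) F} {φ : Fin s → F}
    {A2 T : Matrix (Fin r) (Fin r) F} {b : Fin r → F} (hA1 : A1.det ≠ 0) (hA2 : A2.det ≠ 0) (hb : b ≠ 0)
    (o1 : Obs (A1⁻¹ * S) φ) (o2 : Obs S φ) (c1 : ∀ κ, Obs ((A2ᵀ)⁻¹ * (T + vecMulVec b κ)ᵀ) b)
    (c2 : ∀ κ, Obs (T + vecMulVec b κ)ᵀ b)
    (hG : ∀ Γ : Matrix (Fin r) (Fin s) F, Γ * A1 = A2 * Γ →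
      (∀ v, φ ⬝ᵥ v = 0 → ∃ c : F, T *ᵥ (Γ *ᵥ v) - Γ *ᵥ (S *ᵥ v) = c • b) → Γ = 0)
    (Ps : Matrix (Fin s) (Fin r) F) {f g : F[X]} (hf : f.Monic) (hg : g.Monic) (hfn : f.natDegree = s + r)
    (hgn : g.natDegree = s + r) (hdet : f.coeff 0 * g.coeff 0 = A1.det * A2.det) :
    Fac (fromBlocks A1 Ps 0 A2) f g := by
  classical
  -- the trace
  obtain ⟨i0, hi0⟩ : ∃ i, b i ≠ 0 := by
    by_contra h
    push Not at h
    exact hb (funext h)
  obtain ⟨κ, hκ⟩ : ∃ κ : Fin r → F, S.trace + (T + vecMulVec b κ).trace = -f.nextCoeff := by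
    refine ⟨Pi.single i0 ((-f.nextCoeff - S.trace - T.trace) / b i0), ?_⟩
    rw [trace_add, trace_vecMulVec, dotProduct_single, mul_div_cancel₀ _ hi0]
    ring
  set X2 := T + vecMulVec b κ with hX2
  have hm' := row_indep_one o2
  have hn' := row_indep_one (c2 κ)
  have hdeg : S.charpoly * X2.charpoly - f ∈ degreeLT F (s + r - 1) := by
    refine diff_mem (by omega) ((charpoly_monic S).mul (charpoly_monic X2)) hf ?_ hfn ?_
    · rw [(charpoly_monic S).natDegree_mul (charpoly_monic X2), charpoly_natDegree_eq_dim, charpoly_natDegree_eq_dim,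
        Fintype.card_fin, Fintype.card_fin]
    · rw [(charpoly_monic S).nextCoeff_mul (charpoly_monic X2)]
      have h1 := trace_eq_neg_charpoly_nextCoeff S
      have h2 := trace_eq_neg_charpoly_nextCoeff X2
      rw [h1, h2] at hκ
      linear_combination -hκ
  obtain ⟨Xi, hXi⟩ := span_mul _ _ hm' (row_mem φ 1 S) hn' (row_mem b 1 X2ᵀ) hs hr hdeg
  set X0 := XM S Xi b φ X2 with hX0
  have hfX : X0.charpoly = f := by
    rw [hX0, charpoly_XM, hXi]
    ring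
  have hc0 : f.coeff 0 = (-X0).det := by
    rw [← hfX, det_neg, det_eq_sign_charpoly_coeff X0, ← mul_assoc, ← mul_pow, neg_one_mul, neg_neg, one_pow, one_mul]
  have hX0d : X0.det ≠ 0 := by
    intro h
    have h1 : f.coeff 0 = 0 := by rw [hc0, det_neg, h, mul_zero]
    rw [h1, zero_mul] at hdet
    exact mul_ne_zero hA1 hA2 hdet.symm
  -- the second polynomial
  have q1 := det_pen_ne S A1 hA1
  have q2 := det_pen_ne X2 A2 hA2
  have key := fun Q : Matrix (Fin s) (Fin r) F => det_pencil S A1 Xi Q b φ X2 A2 q1 q2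
  set H : F[X] := C X0.det * g - ((X : F[X]) • X0.map C - (fromBlocks A1 Ps 0 A2).map C).det with hH
  have hN : ∀ M : Matrix (Fin s ⊕ Fin r) (Fin s ⊕ Fin r) F, M.charpoly.natDegree = s + r := by
    intro M
    rw [charpoly_natDegree_eq_dim, Fintype.card_sum, Fintype.card_fin, Fintype.card_fin]
  have hH0 : H.coeff 0 = 0 := by
    rw [hH, coeff_sub, coeff_C_mul, coeff_pencil_zero, det_neg, det_fromBlocks_zero₂₁, ← hdet, hc0, det_neg]
    rw [← mul_assoc, ← mul_assoc, ← mul_pow, neg_one_mul, neg_neg, one_pow, one_mul, sub_self]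
  have hHd : H.divX ∈ degreeLT F (s + r - 1) := by
    rw [mem_degreeLT, degree_lt_iff_coeff_zero]
    intro m hm
    rw [coeff_divX, hH, det_charpoly _ _ hX0d, ← mul_sub, coeff_C_mul, coeff_sub]
    have h1 := hN (X0⁻¹ * fromBlocks A1 Ps 0 A2)
    have h2 := charpoly_monic (X0⁻¹ * fromBlocks A1 Ps 0 A2)
    rcases Nat.lt_or_ge (s + r) (m + 1) with h3 | h3
    · rw [coeff_eq_zero_of_natDegree_lt (by omega), coeff_eq_zero_of_natDegree_lt (by omega), sub_self, mul_zero]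
    · have e : m + 1 = s + r := by omega
      have h4 : g.coeff (m + 1) = 1 := by rw [e, ← hgn]; exact hg.coeff_natDegree
      have h5 : (X0⁻¹ * fromBlocks A1 Ps 0 A2).charpoly.coeff (m + 1) = 1 := by
        rw [e, ← h1]; exact h2.coeff_natDegree
      rw [h4, h5, sub_self, mul_zero]
  obtain ⟨y, hy⟩ := exists_y hs hr hA1 hA2 o1 (c1 κ) (by
    intro Γ h1 h2
    refine hG Γ h1 fun v hv => ?_
    obtain ⟨c, hc⟩ := h2 v hv
    refine ⟨c - κ ⬝ᵥ (Γ *ᵥ v), ?_⟩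
    rw [sub_smul, ← hc, add_mulVec, vecMulVec_mulVec]
    have : MulOpposite.op (κ ⬝ᵥ Γ *ᵥ v) • b = (κ ⬝ᵥ Γ *ᵥ v) • b := by
      ext i; simp [mul_comm]
    rw [this]
    abel) hHd
  -- the perturbation
  set Q := Ps + (A1 * y - y * A2) with hQ
  have hk : ((X : F[X]) • X0.map C - (fromBlocks A1 Q 0 A2).map C).det = C X0.det * g := by
    have h1 := key Q
    have h2 := key Ps
    have h3 : ∑ i, ∑ j, Q i j • (H957.TL.row φ S A1 i * H957.TL.row b X2ᵀ A2ᵀ j) =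
        ∑ i, ∑ j, Ps i j • (H957.TL.row φ S A1 i * H957.TL.row b X2ᵀ A2ᵀ j) + H.divX := by
      rw [← hy, ← Finset.sum_add_distrib]
      refine Finset.sum_congr rfl fun i _ => ?_
      rw [← Finset.sum_add_distrib]
      refine Finset.sum_congr rfl fun j _ => ?_
      rw [← add_smul]
      rfl
    rw [h1, h3]
    have h4 := divX_mul_X_add H
    rw [hH0, C_0, add_zero] at h4
    have h5 : C X0.det * g = H + ((X : F[X]) • X0.map C - (fromBlocks A1 Ps 0 A2).map C).det := by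
      rw [hH]; ring
    rw [h5, h2]
    linear_combination h4
  have hfac : Fac (fromBlocks A1 Q 0 A2) f g := by
    refine ⟨X0, X0⁻¹ * fromBlocks A1 Q 0 A2, ?_, hfX, ?_⟩
    · rw [← Matrix.mul_assoc, mul_nonsing_inv _ (isUnit_iff_ne_zero.2 hX0d), Matrix.one_mul]
    · rw [det_charpoly _ _ hX0d] at hk
      exact mul_left_cancel₀ (C_ne_zero.2 hX0d) hk
  refine hfac.transfer (P := fromBlocks 1 y 0 1) (P' := fromBlocks 1 (-y) 0 1) ?_ ?_ ?_
  · rw [fromBlocks_multiply]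
    simp
  · rw [fromBlocks_multiply]
    simp
  · rw [fromBlocks_multiply, fromBlocks_multiply, hQ]
    congr 1
    · simp
    · simp
      abel
    · simp
    · simp

end Cfsg.Agent.H324.TL
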