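import Cfsg.Agent.H324.TL.Flag
import Cfsg.Agent.H376.TL.RankOne
import Cfsg.Agent.H117.TLc

/-!
# Theorem L (helper324, for S2464): `A` = scalar times regular unipotent
-/

set_option autoImplicit false

namespace Cfsg.Agent.H324.TL

open Matrix Polynomial Cfsg.Agent.H957.TL

variable {F : Type*} [Field F]

/-- pole placement -/
theorem exists_pole {n : ℕ} (M : Matrix (Fin n) (Fin n) F) (w : Fin n → F) (hobs : Obs Mᵀ w) (g : F[X]) (hg : g.Monic)
    (hgn : g.natDegree = n) : ∃ φ : Fin n → F, (M + vecMulVec w φ).charpoly = g := by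
  have hpen : pen (1 : Matrix (Fin n) (Fin n) F) Mᵀ = M.charmatrixᵀ := by
    rw [pen_one]
    ext i j : 2
    simp only [Matrix.transpose_apply, charmatrix_apply, Matrix.diagonal_apply]
    by_cases h : i = j
    · subst h
      simp
    · simp [h, Ne.symm h]
  have hrow : ∀ j, Cfsg.Agent.H957.TL.row w 1 Mᵀ j = (M.charmatrix.adjugate *ᵥ (C ∘ w)) j := by
    intro j
    rw [Cfsg.Agent.H957.TL.row, hpen, ← adjugate_transpose, vecMul_transpose]
  have hli : LinearIndependent F (Cfsg.Agent.H957.TL.row w 1 Mᵀ) := row_indep_one hobs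
  have hq : g - M.charpoly ∈ degreeLT F n := by
    rw [mem_degreeLT]
    have h1 : g.degree = (n : WithBot ℕ) := by rw [degree_eq_natDegree hg.ne_zero, hgn]
    have h2 : M.charpoly.degree = (n : WithBot ℕ) := by rw [M.charpoly_degree_eq_dim, Fintype.card_fin]
    rw [← h1]
    exact degree_sub_lt_left (h1.trans h2.symm) hg.ne_zero (by rw [hg.leadingCoeff, M.charpoly_monic.leadingCoeff])
  obtain ⟨c, hc⟩ := H376.TL.exists_comb _ (row_mem w 1 Mᵀ) hli _ hq
  refine ⟨-c, ?_⟩
  rw [H376.TL.charpoly_add_vecMulVec]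
  have h3 : ((C ∘ (-c)) : Fin n → F[X]) ⬝ᵥ (M.charmatrix.adjugate *ᵥ (C ∘ w)) = -(g - M.charpoly) := by
    rw [← hc, dotProduct, ← Finset.sum_neg_distrib]
    refine Finset.sum_congr rfl fun j _ => ?_
    rw [← hrow, smul_eq_C_mul, Function.comp_apply, Pi.neg_apply, map_neg, neg_mul]
  rw [h3]
  ring

/-- the shift -/
theorem exists_Y {n : ℕ} (hn : 0 < n) (g : F[X]) (hg : g.Monic) (hgn : g.natDegree = n) :
    ∃ Y : Matrix (Fin n) (Fin n) F, Y.charpoly = g ∧
      ∀ j k : Fin n, k.val = j.val + 1 → Y *ᵥ Pi.single k 1 = Pi.single j 1 := by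
  classical
  let M0 : Matrix (Fin n) (Fin n) F := fun i j => if j.val = i.val + 1 then 1 else 0
  have hobs : Obs (M0ᵀ)ᵀ (Pi.single ⟨0, hn⟩ 1) := by
    rw [transpose_transpose]
    refine obs_of fun U hU hφ => all_zero hn (fun u hu => ?_) ?_
    · have := hφ u hu
      rwa [single_dotProduct, one_mul] at this
    · intro k j hj ih u hu
      have h1 := ih _ (hU u hu) k le_rfl
      rw [mulVec, dotProduct, Finset.sum_eq_single j] at h1
      · have : M0 k j = 1 := if_pos hj
        rwa [this, one_mul] at h1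
      · intro i _ hi
        have : M0 k i = 0 := if_neg (fun h => hi (Fin.ext (h.trans hj.symm)))
        rw [this, zero_mul]
      · intro h
        exact absurd (Finset.mem_univ _) h
  obtain ⟨y, hy⟩ := exists_pole M0ᵀ (Pi.single ⟨0, hn⟩ 1) hobs g hg hgn
  refine ⟨(M0ᵀ + vecMulVec (Pi.single ⟨0, hn⟩ 1) y)ᵀ, by rw [charpoly_transpose, hy], ?_⟩
  intro j k hk
  rw [transpose_add, transpose_transpose, transpose_vecMulVec, add_mulVec, vecMulVec_mulVec, single_dotProduct, one_mul,
    Pi.single_eq_of_ne, MulOpposite.op_zero, zero_smul, add_zero, mulVec_single_one]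
  · funext i
    show M0 i k = _
    by_cases hi : i = j
    · rw [hi, Pi.single_eq_same]
      exact if_pos hk
    · rw [Pi.single_eq_of_ne hi]
      exact if_neg (fun h => hi (Fin.ext (by omega)))
  · intro h
    have := congrArg Fin.val h
    simp at this
    omega

theorem exists_u {t : F} (ht0 : t ≠ 0) (ht1 : t ≠ 1) {m : ℕ} (hm : 2 ≤ m) (σ : F) :
    ∃ u : Fin m → F, (∀ k, u k ≠ 0) ∧ ∑ k, u k = σ := by
  induction m, hm using Nat.le_induction generalizing σ with
  | base =>
    obtain ⟨c, hc0, hc⟩ : ∃ c : F, c ≠ 0 ∧ c ≠ σ := by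
      by_cases h : (1 : F) = σ
      · exact ⟨t, ht0, fun h' => ht1 (h'.trans h.symm)⟩
      · exact ⟨1, one_ne_zero, h⟩
    refine ⟨![c, σ - c], ?_, ?_⟩
    · intro k
      fin_cases k
      · exact hc0
      · exact sub_ne_zero.2 (Ne.symm hc)
    · simp
  | succ m _ ih =>
    obtain ⟨u, hu, hs⟩ := ih (σ - 1)
    refine ⟨Fin.cons 1 u, ?_, ?_⟩
    · intro k
      refine Fin.cases ?_ (fun k => ?_) k
      · exact one_ne_zero
      · exact hu k
    · rw [Fin.sum_univ_succ, Fin.cons_zero]
      simp only [Fin.cons_succ, hs]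
      ring

/-- the last power of a strictly triangular matrix -/
theorem pow_ne {m : ℕ} {N : Matrix (Fin (m + 1)) (Fin (m + 1)) F} (h1 : ∀ i j, j ≤ i → N i j = 0)
    (h2 : ∀ i j : Fin (m + 1), j.val = i.val + 1 → N i j ≠ 0) : N ^ m ≠ 0 := by
  have key : ∀ k : ℕ, ∀ l : Fin (m + 1), l.val = k → ∀ v : Fin (m + 1) → F, (∀ j, l < j → v j = 0) → v l ≠ 0 →
      (N ^ k) *ᵥ v ≠ 0 := by
    intro k
    induction k with
    | zero =>
      intro l _ v _ hv h
      rw [pow_zero, one_mulVec] at h
      exact hv (congrFun h l)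
    | succ k ih =>
      intro l hl v hv hvl
      rw [pow_succ, ← mulVec_mulVec]
      have hk : k < m + 1 := by omega
      refine ih ⟨k, hk⟩ rfl _ ?_ ?_
      · intro j hj
        rw [Fin.lt_def] at hj
        rw [mulVec, dotProduct]
        refine Finset.sum_eq_zero fun i _ => ?_
        rcases le_or_gt i j with h | h
        · rw [h1 j i h, zero_mul]
        · rw [hv i, mul_zero]
          rw [Fin.lt_def] at h ⊢
          simp only at hj
          omega
      · rw [mulVec, dotProduct, Finset.sum_eq_single l]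
        · exact mul_ne_zero (h2 _ _ hl) hvl
        · intro i _ hi
          rcases lt_trichotomy i l with h | h | h
          · rw [h1 ⟨k, hk⟩ i, zero_mul]
            rw [Fin.lt_def] at h
            rw [Fin.le_def]
            simp only
            omega
          · exact absurd h hi
          · rw [hv i h, mul_zero]
        · intro h
          exact absurd (Finset.mem_univ _) h
  intro h
  refine key m (Fin.last m) rfl (Pi.single (Fin.last m) 1) ?_ ?_ (by rw [h, zero_mulVec])
  · intro j hj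
    exact absurd hj (not_lt.2 (Fin.le_last j))
  · rw [Pi.single_eq_same]
    exact one_ne_zero

theorem aeval_X_sub {n : ℕ} (A : Matrix (Fin n) (Fin n) F) (a : F) (k : ℕ) :
    aeval A ((X - C a) ^ k) = (A - Matrix.scalar (Fin n) a) ^ k := by
  rw [map_pow, map_sub, aeval_X, aeval_C]
  rfl

theorem charpoly_of_pow {m : ℕ} (A : Matrix (Fin (m + 1)) (Fin (m + 1)) F) (a : F)
    (h1 : (A - Matrix.scalar (Fin (m + 1)) a) ^ (m + 1) = 0) (h2 : (A - Matrix.scalar (Fin (m + 1)) a) ^ m ≠ 0) :
    A.charpoly = (X - C a) ^ (m + 1) := by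
  rw [← aeval_X_sub] at h1 h2
  have h3 : minpoly F A ∣ (X - C a) ^ (m + 1) := minpoly.dvd F A h1
  obtain ⟨i, hi, h4⟩ := (dvd_prime_pow (prime_X_sub_C a) _).1 h3
  have h5 : i = m + 1 := by
    by_contra h
    apply h2
    obtain ⟨q, hq⟩ := h4.dvd.trans (pow_dvd_pow (X - C a) (by omega : i ≤ m))
    rw [hq, map_mul, minpoly.aeval, Matrix.zero_mul]
  have h6 : minpoly F A = (X - C a) ^ (m + 1) := by
    rw [h5] at h4
    exact eq_of_monic_of_associated (minpoly.monic (Matrix.isIntegral A)) ((monic_X_sub_C a).pow _) h4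
  refine eq_of_monic_of_dvd_of_natDegree_le ((monic_X_sub_C a).pow _) (charpoly_monic A) ?_ ?_
  · rw [← h6]
    exact Matrix.minpoly_dvd_charpoly A
  · rw [charpoly_natDegree_eq_dim, Fintype.card_fin, natDegree_pow, natDegree_X_sub_C, mul_one]

/-- **`A` = scalar times a regular unipotent.** -/
theorem fac_uni {t : F} (ht0 : t ≠ 0) (ht1 : t ≠ 1) {n : ℕ} (hn : 3 ≤ n) (A : Matrix (Fin n) (Fin n) F) (a : F)
    (ha : a ≠ 0) (hA1 : (A - Matrix.scalar (Fin n) a) ^ n = 0) (hA2 : (A - Matrix.scalar (Fin n) a) ^ (n - 1) ≠ 0)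
    {f g : F[X]} (hf : f.Monic) (hg : g.Monic) (hfn : f.natDegree = n) (hgn : g.natDegree = n)
    (hdet : f.coeff 0 * g.coeff 0 = A.det) : Fac A f g := by
  classical
  obtain ⟨m, rfl⟩ : ∃ m, n = m + 1 := ⟨n - 1, by omega⟩
  have hm : 2 ≤ m := by omega
  rw [Nat.add_sub_cancel] at hA2
  have hAc := charpoly_of_pow A a hA1 hA2
  have hAd : A.det = a ^ (m + 1) := by
    rw [det_eq_sign_charpoly_coeff, hAc, coeff_zero_eq_eval_zero, eval_pow, eval_sub, eval_X, eval_C, zero_sub,
      Fintype.card_fin, ← mul_pow, neg_one_mul, neg_neg]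
  obtain ⟨Y, hYg, hY⟩ := exists_Y (Nat.succ_pos m) g hg hgn
  have hYd : (-1) ^ (m + 1) * Y.det = g.coeff 0 := by
    rw [det_eq_sign_charpoly_coeff, hYg, Fintype.card_fin, ← mul_assoc, ← mul_pow, neg_one_mul, neg_neg, one_pow,
      one_mul]
  have hYd0 : Y.det ≠ 0 := by
    intro h
    rw [h, mul_zero] at hYd
    rw [← hYd, mul_zero, hAd] at hdet
    exact pow_ne_zero _ ha hdet.symm
  have hYu := isUnit_iff_ne_zero.2 hYd0
  set Z := Y⁻¹ with hZ
  have hZe : ∀ j k : Fin (m + 1), k.val = j.val + 1 → Z *ᵥ Pi.single j 1 = Pi.single k 1 := by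
    intro j k hk
    rw [← hY j k hk, mulVec_mulVec, nonsing_inv_mul _ hYu, one_mulVec]
  obtain ⟨u, hu0, hu⟩ := exists_u ht0 ht1 hm (-f.nextCoeff - a * Z (Fin.last m) (Fin.last m))
  let U0 : Matrix (Fin (m + 1)) (Fin (m + 1)) F := fun i j =>
    if i = j then a else if h : j.val = i.val + 1 then u ⟨i.val, by omega⟩ else 0
  have hU0s : ∀ i, U0 i i = a := fun i => if_pos rfl
  have hU01 : ∀ (i j : Fin (m + 1)) (h : j.val = i.val + 1), U0 i j = u ⟨i.val, by omega⟩ := by
    intro i j h
    have hij : i ≠ j := fun h' => by rw [h'] at h; omega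
    show (if i = j then a else if h : j.val = i.val + 1 then u ⟨i.val, by omega⟩ else 0) = _
    rw [if_neg hij, dif_pos h]
  have hU00 : ∀ i j : Fin (m + 1), i ≠ j → j.val ≠ i.val + 1 → U0 i j = 0 := by
    intro i j h h'
    show (if i = j then a else if h : j.val = i.val + 1 then u ⟨i.val, by omega⟩ else 0) = _
    rw [if_neg h, dif_neg h']
  set M := U0 * Z with hM
  have hMc : ∀ i k j : Fin (m + 1), j.val = k.val + 1 → M i k = U0 i j := by
    intro i k j hj
    have h1 : M *ᵥ Pi.single k 1 = U0 *ᵥ Pi.single j 1 := by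
      rw [hM, ← mulVec_mulVec, hZe k j hj]
    have h2 := congrFun h1 i
    rw [mulVec_single_one, mulVec_single_one] at h2
    exact h2
  have hobs : Obs Mᵀ (Pi.single 0 1) := by
    refine obs_of fun U hU hφ => all_zero (Nat.succ_pos m) (fun v hv => ?_) ?_
    · have := hφ v hv
      rwa [single_dotProduct, one_mul] at this
    · intro k j hj ih v hv
      have h1 := ih _ (hU v hv) k le_rfl
      rw [mulVec, dotProduct, Finset.sum_eq_single j] at h1
      · rw [transpose_apply, hMc j k j hj, hU0s] at h1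
        exact (mul_eq_zero.1 h1).resolve_left ha
      · intro i _ hi
        rw [transpose_apply, hMc i k j hj]
        by_cases hik : j.val = i.val + 1
        · have : i = k := Fin.ext (by omega)
          rw [this, ih v hv k le_rfl, mul_zero]
        · rw [hU00 i j hi hik, zero_mul]
      · intro h
        exact absurd (Finset.mem_univ _) h
  obtain ⟨φ, hφ⟩ := exists_pole M (Pi.single 0 1) hobs f hf hfn
  set w := φ ᵥ* Y with hw
  have hwZ : w ᵥ* Z = φ := by
    rw [hw, vecMul_vecMul, mul_nonsing_inv _ hYu, vecMul_one]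
  set U := U0 + vecMulVec (Pi.single 0 1) w with hU
  have hUZ : U * Z = M + vecMulVec (Pi.single 0 1) φ := by
    rw [hU, Matrix.add_mul, vecMulVec_mul, hwZ]
  have hUe : ∀ i j, U i j = U0 i j + (Pi.single 0 1 : Fin (m + 1) → F) i * w j := fun i j => rfl
  have hUs : ∀ i j : Fin (m + 1), i ≠ 0 → U i j = U0 i j := by
    intro i j hi
    rw [hUe, Pi.single_eq_of_ne hi, zero_mul, add_zero]
  have hUt : U.BlockTriangular id := by
    intro i j hij
    have hij' : j < i := hij
    rw [Fin.lt_def] at hij'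
    rw [hUs i j (fun h => by rw [h] at hij'; simp at hij'), hU00]
    · intro h; rw [h] at hij'; omega
    · omega
  -- the determinant
  have hUd : U.det = (a + w 0) * a ^ m := by
    rw [det_of_isUpperTriangular hUt, Fin.prod_univ_succ, hUe, hU0s, Pi.single_eq_same, one_mul]
    congr 1
    rw [Finset.prod_congr rfl (fun i _ => ((hUs i.succ i.succ (Fin.succ_ne_zero i)).trans (hU0s _))),
      Finset.prod_const, Finset.card_univ, Fintype.card_fin]
  have hUd' : U.det = a ^ (m + 1) := by
    have h1 : (U * Z).charpoly = f := by rw [hUZ, hφ]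
    have h2 : (U * Z).det = (-1) ^ (m + 1) * f.coeff 0 := by
      rw [det_eq_sign_charpoly_coeff, h1, Fintype.card_fin]
    have h3 : U.det = (U * Z).det * Y.det := by
      rw [← det_mul, Matrix.mul_assoc, nonsing_inv_mul _ hYu, Matrix.mul_one]
    rw [h3, h2, ← hAd, ← hdet, ← hYd]
    ring
  have hw0 : w 0 = 0 := by
    rw [hUd, pow_succ, mul_comm (a ^ m) a] at hUd'
    have h1 := mul_right_cancel₀ (pow_ne_zero m ha) hUd'
    linear_combination h1
  -- the trace
  have htr : M.trace = -f.nextCoeff := by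
    rw [trace, Fin.sum_univ_castSucc, diag_apply]
    have h1 : M (Fin.last m) (Fin.last m) = a * Z (Fin.last m) (Fin.last m) := by
      rw [hM, mul_apply, Finset.sum_eq_single (Fin.last m), hU0s]
      · intro i _ hi
        rw [hU00 _ i (Ne.symm hi), zero_mul]
        have := i.isLt
        simp
        omega
      · intro h
        exact absurd (Finset.mem_univ _) h
    have h2 : ∀ k : Fin m, M.diag k.castSucc = u k := by
      intro k
      rw [diag_apply, hMc k.castSucc k.castSucc k.succ (by simp), hU01 _ _ (by simp)]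
      rfl
    rw [Finset.sum_congr rfl (fun k _ => h2 k), hu, h1]
    ring
  have hw1 : w ⟨1, by omega⟩ = 0 := by
    have h1 : (M + vecMulVec (Pi.single 0 1) φ).trace = -f.nextCoeff := by
      rw [trace_eq_neg_charpoly_nextCoeff, hφ]
    rw [trace_add, htr, trace_vecMulVec, single_dotProduct, one_mul] at h1
    have h2 : φ 0 = 0 := by linear_combination h1
    have h3 : w ⬝ᵥ (Z *ᵥ Pi.single 0 1) = φ 0 := by
      rw [dotProduct_mulVec, hwZ, dotProduct_single, mul_one]
    rw [hZe 0 ⟨1, by omega⟩ (by simp), dotProduct_single, mul_one] at h3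
    rw [h3, h2]
  -- `U` is regular
  have hUdiag : ∀ i, U i i = a := by
    intro i
    by_cases hi : i = 0
    · rw [hi, hUe, hw0, mul_zero, add_zero, hU0s]
    · rw [hUs i i hi, hU0s]
  have hUc : U.charpoly = (X - C a) ^ (m + 1) := by
    rw [charpoly_of_isUpperTriangular U hUt, Finset.prod_congr rfl (fun i _ => by rw [hUdiag i]), Finset.prod_const,
      Finset.card_univ, Fintype.card_fin]
  have hUp : aeval U ((X - C a) ^ m) ≠ 0 := by
    rw [aeval_X_sub]
    refine pow_ne ?_ ?_
    · intro i j hji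
      rcases lt_or_eq_of_le hji with h | h
      · rw [Matrix.sub_apply, hUt h, Matrix.scalar_apply, diagonal_apply_ne _ (ne_of_gt h), sub_zero]
      · rw [h, Matrix.sub_apply, hUdiag, Matrix.scalar_apply, diagonal_apply_eq, sub_self]
    · intro i j hj
      have hij : i ≠ j := fun h' => by rw [h'] at hj; omega
      have hne : U i j = u ⟨i.val, by omega⟩ := by
        rw [hUe, hU01 i j hj]
        by_cases hi : i = 0
        · have hj1 : j = ⟨1, by omega⟩ := Fin.ext (by rw [hj, hi]; simp)
          have hwj : w j = 0 := by rw [hj1]; exact hw1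
          rw [hwj, mul_zero, add_zero]
        · rw [Pi.single_eq_of_ne hi, zero_mul, add_zero]
      rw [Matrix.sub_apply, hne, Matrix.scalar_apply, diagonal_apply_ne _ hij, sub_zero]
      exact hu0 _
  have hfac : Fac U f g := by
    refine ⟨U * Z, Y, ?_, by rw [hUZ, hφ], hYg⟩
    rw [Matrix.mul_assoc, nonsing_inv_mul _ hYu, Matrix.mul_one]
  obtain ⟨P, P', h1, h2, h3⟩ := H117.TLc.similar_cyc (irreducible_X_sub_C a) hAc hUc
    (by rw [aeval_X_sub]; exact hA2) hUp
  exact hfac.transfer h1 h2 h3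

end Cfsg.Agent.H324.TL
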